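import Groth.Prelude.Def_StMod2
import Groth.Agent.Stk19.AlgSt.Qc
import Groth.Agent.Stk19b.LargestRep.Basic
import Groth.Agent.AlgSpLib.VCartSpace

/-! Affine morphisms from stacks to algebraic spaces are cohomologically affine. -/

set_option autoImplicit false
set_option backward.isDefEq.respectTransparency false
set_option backward.isDefEq.respectTransparency.types false

universe u

open CategoryTheory CategoryTheory.Limits AlgebraicGeometry Opposite FibCat Groth.Agent.Desc19 Groth.Agent.Stk19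

noncomputable section

namespace Groth.Agent.CohAff19

variable {S : Scheme.{u}} {𝒳 : AlgSt.Cat S} {M : AlgSp.Sp S}

/-- An object over an affine scheme with a universal map to the object of an affine test scheme. -/
theorem exists_universal {π : 𝒳 ⥤ᵇ AlgSt.ofSp M} (hπ : AlgSt.RepByAlgSpWith AlgSp.IsAffineMor π)
    (E : AlgSp.EtOver M) (hE : IsAffine E.obj.left.left) :
    ∃ (ξ₀ : 𝒳.obj) (α₀ : π.obj ξ₀ ⟶ StMod.etaOf E), IsAffine (StMod.sch 𝒳 ξ₀) ∧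
      ∃ φ : ∀ (ξ : 𝒳.obj), (π.obj ξ ⟶ StMod.etaOf E) → (ξ ⟶ ξ₀),
        (∀ ξ α, π.map (φ ξ α) ≫ α₀ = α) ∧
        (∀ ⦃ξ' ξ : 𝒳.obj⦄ (ψ : ξ' ⟶ ξ) (α : π.obj ξ ⟶ StMod.etaOf E), φ ξ' (π.map ψ ≫ α) = ψ ≫ φ ξ α) := by
  let U : Over S := E.obj.left
  let y : overCat U ⥤ᵇ AlgSt.ofSp M := BasedFunctor.comp (AlgSt.ofOverCat U) (AlgSt.ofSpMap E.obj.hom)
  obtain ⟨F, e, he, ha⟩ := hπ U y
  obtain ⟨W, i, fst, sq, hW⟩ := ha (show IsAffine U.left from hE) (𝟙 _)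
  haveI : IsIso fst := sq.isIso_fst_of_isIso
  -- the terminal object of the representing space
  let T₀ : (AlgSt.ofSp F.obj).obj := ⟨W, fst.hom.app (op W) ⟨𝟙 W⟩⟩
  have hfst : ∀ (T : Over S) (g : T ⟶ W), F.obj.obj.map g.op T₀.sec = fst.hom.app (op T) ⟨g⟩ := fun T g => by
    have := congrArg (fun k => k ⟨𝟙 W⟩) (fst.hom.naturality g.op)
    refine (this.symm).trans ?_
    exact congrArg (fst.hom.app (op T)) (ULift.ext _ _ (Category.comp_id g))
  let hT₀ : IsTerminal T₀ := IsTerminal.ofUniqueHom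
    (fun a => ⟨((inv fst).hom.app (op a.base) a.sec).down, by
      refine (hfst _ _).trans ?_
      exact congrArg (fun k : F.obj ⟶ F.obj => k.hom.app (op a.base) a.sec) (IsIso.inv_hom_id fst)⟩)
    (fun a m => Stk.EltObj.hom_ext (by
      have h1 := congrArg ((inv fst).hom.app (op a.base)) ((hfst a.base m.hom).symm.trans m.map_sec)
      have h2 : (inv fst).hom.app (op a.base) (fst.hom.app (op a.base) ⟨m.hom⟩) = ⟨m.hom⟩ :=
        congrArg (fun k : (AlgSp.yon S).obj W ⟶ (AlgSp.yon S).obj W => k.hom.app (op a.base) ⟨m.hom⟩)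
          (IsIso.hom_inv_id fst)
      exact congrArg ULift.down (h2.symm.trans h1)))
  haveI := isEquivalence_of_isEquivOver he
  let P : (fp y π).obj := e.obj T₀
  let hP : IsTerminal P := IsTerminal.isTerminalObj e.toFunctor T₀ hT₀
  let cU : (overCat U).obj := Over.mk (𝟙 U)
  let c₀ : P.obj.fst ⟶ cU := Over.homMk P.obj.fst.hom (Category.comp_id _)
  let α₀ : π.obj P.obj.snd ⟶ StMod.etaOf E := P.obj.iso.inv ≫ (y.map c₀ : y.obj P.obj.fst ⟶ y.obj cU)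
  have haff : IsAffine (StMod.sch 𝒳 P.obj.snd) := by
    have h1 : 𝒳.p.obj P.obj.snd = (fp y π).p.obj P := (fpSnd y π).w_obj P
    have h2 : (fp y π).p.obj P = W := e.w_obj T₀
    show IsAffine (𝒳.p.obj P.obj.snd).left
    rw [h1.trans h2]
    exact hW
  -- the object of the fibre product of a pair
  let yb : ∀ (ξ : 𝒳.obj) (α : π.obj ξ ⟶ StMod.etaOf E),
      y.obj (Over.mk (StMod.baseOver π ξ α)) ⟶ StMod.etaOf E := fun ξ α =>
    y.map (Over.homMk (StMod.baseOver π ξ α) (Category.comp_id _) : Over.mk (StMod.baseOver π ξ α) ⟶ cU)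
  let ιh : ∀ (ξ : 𝒳.obj) (α : π.obj ξ ⟶ StMod.etaOf E),
      y.obj (Over.mk (StMod.baseOver π ξ α)) ≅ π.obj ξ := fun ξ α =>
    { hom := ⟨eqToHom (π.w_obj ξ).symm, by
        refine Eq.trans ?_ (yb ξ α).map_sec
        rw [← α.map_sec, ← Functor.map_comp_apply, ← op_comp]
        exact congrArg (fun g : 𝒳.p.obj ξ ⟶ U => M.obj.map g.op (StMod.etaOf E).sec) (rfl : eqToHom (π.w_obj ξ).symm ≫ α.hom = (yb ξ α).hom)⟩
      inv := ⟨eqToHom (π.w_obj ξ), by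
        rw [← (yb ξ α).map_sec, ← Functor.map_comp_apply, ← op_comp, ← α.map_sec]
        exact congrArg (fun g : (π.obj ξ).base ⟶ U => M.obj.map g.op (StMod.etaOf E).sec)
          (show eqToHom (π.w_obj ξ) ≫ eqToHom (π.w_obj ξ).symm ≫ α.hom = α.hom by simp)⟩
      hom_inv_id := Stk.EltObj.hom_ext (by simp)
      inv_hom_id := Stk.EltObj.hom_ext (by simp) }
  let X : ∀ (ξ : 𝒳.obj) (α : π.obj ξ ⟶ StMod.etaOf E), (fp y π).obj := fun ξ α =>
    ⟨⟨Over.mk (StMod.baseOver π ξ α), ξ, ιh ξ α⟩, by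
      exact IsHomLift.of_fac' _ _ _ rfl (π.w_obj ξ) (by simp [ιh])⟩
  refine ⟨P.obj.snd, α₀, haff, fun ξ α => (hP.from (X ξ α)).hom.snd, ?_, ?_⟩
  · intro ξ α
    let t := (hP.from (X ξ α)).hom
    have w : y.map t.fst ≫ P.obj.iso.hom = (ιh ξ α).hom ≫ π.map t.snd := t.w
    have h : (ιh ξ α).hom ≫ π.map t.snd ≫ α₀ = (ιh ξ α).hom ≫ α := by
      rw [← Category.assoc, ← w]
      simp only [α₀, Category.assoc, Iso.hom_inv_id_assoc, ← Functor.map_comp]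
      refine Stk.EltObj.hom_ext ?_
      show t.fst.left ≫ P.obj.fst.hom = eqToHom (π.w_obj ξ).symm ≫ α.hom
      exact Over.w t.fst
    exact (Iso.cancel_iso_hom_left (ιh ξ α) _ _).1 h
  · intro ξ' ξ ψ α
    let f : X ξ' (π.map ψ ≫ α) ⟶ X ξ α := ObjectProperty.homMk
      { fst := Over.homMk (𝒳.p.map ψ) (StMod.map_comp_baseOver π ψ α)
        snd := ψ
        w := Stk.EltObj.hom_ext (by
          show 𝒳.p.map ψ ≫ eqToHom (π.w_obj ξ).symm = eqToHom (π.w_obj ξ').symm ≫ (π.map ψ).hom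
          rw [show (π.map ψ).hom = eqToHom (π.w_obj ξ') ≫ 𝒳.p.map ψ ≫ eqToHom (π.w_obj ξ).symm from
            Functor.congr_hom π.w ψ]
          simp) }
    exact congrArg (fun k => k.hom.snd) (hP.hom_ext (hP.from (X ξ' (π.map ψ ≫ α))) (f ≫ hP.from (X ξ α)))

theorem isCohAffine_of_affine {π : 𝒳 ⥤ᵇ AlgSt.ofSp M} (hπ : AlgSt.RepByAlgSpWith AlgSp.IsAffineMor π) :
    StMod.IsCohAffine π := by
  intro F G u hu E hE s
  obtain ⟨ξ₀, α₀, h₀, φ, hφ, hcomp⟩ := exists_universal hπ E hE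
  obtain ⟨m, hm⟩ := hu ξ₀ h₀ (s.1 ξ₀ α₀)
  refine ⟨⟨fun ξ α => F.obj.mapTop (φ ξ α) m, fun ξ' ξ ψ α => by
    show F.obj.mapTop ψ (F.obj.mapTop (φ ξ α) m) = F.obj.mapTop (φ ξ' (π.map ψ ≫ α)) m
    rw [hcomp, StMod.Mod.mapTop_comp]⟩, ?_⟩
  refine StMod.Mod.RelSect.ext π G.obj _ fun ξ α => ?_
  show (u.hom.app ξ).app ⊤ (F.obj.mapTop (φ ξ α) m) = s.1 ξ α
  exact (StMod.Mod.mapTop_app u.hom (φ ξ α) m).symm.trans ((congrArg (G.obj.mapTop (φ ξ α)) hm).trans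
    ((s.2 (φ ξ α) α₀).trans (congrArg (s.1 ξ) (hφ ξ α))))

theorem isQuasiCompactMor_of_affine [QuasiSeparatedSpace ↥S]
    (h𝒳 : AlgSt.IsAlgStack Scheme.fppfPrecoverage 𝒳) (M : AlgSp.Space S) {π : 𝒳 ⥤ᵇ AlgSt.ofSp M.obj}
    (hπ : AlgSt.RepByAlgSpWith AlgSp.IsAffineMor π) :
    AlgSt.IsQuasiCompactMor Scheme.fppfPrecoverage π :=
  qcMor_of_with (Stk19b.LargestRep.isAlgStack_ofSp M) h𝒳 fun U y => by
    obtain ⟨F, e, he, ha⟩ := hπ U y
    exact ⟨F, e, he, Groth.Agent.AlgSpLib.VCart.isQuasiCompactMor_of_affineMor F.property (AlgSp.IsAlgSpace.yon_obj U) ha⟩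

end Groth.Agent.CohAff19
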