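import Groth.Prelude.Def_StMod2
import Groth.Agent.Stk19.AlgSt.SepDiag
import Groth.Agent.Stk19.AlgSt.DiagWith
import Groth.Agent.Stk19.AlgSt.Spectral
import Groth.Agent.AlgSpLib.FpqcBaseAffine2
import Groth.Agent.AlgSpLib.MorProper
import Groth.Agent.Stk19b.LargestRep.Basic

/-! An affine chart of a stack over an affine scheme etale over the target, with an affine scheme of overlaps. -/

set_option autoImplicit false
set_option backward.isDefEq.respectTransparency false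
set_option backward.isDefEq.respectTransparency.types false
set_option linter.style.haveILetI false

universe u

open CategoryTheory CategoryTheory.Limits AlgebraicGeometry Opposite FibCat Groth.Agent.Desc19 Groth.Agent.Stk19

noncomputable section

namespace Groth.Agent.CohAff19

variable {S : Scheme.{u}} {𝒳 : AlgSt.Cat S} {M : AlgSp.Sp S} {π : 𝒳 ⥤ᵇ AlgSt.ofSp M}

/-- A morphism of the base is a cover: smooth and surjective. -/
def IsCov {ζ ξ : 𝒳.obj} (n : ζ ⟶ ξ) : Prop :=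
  Smooth (StMod.bmap 𝒳 n) ∧ Surjective (StMod.bmap 𝒳 n)

/-- An affine chart of `𝒳` over `η` with affine overlaps. -/
structure Atlas (π : 𝒳 ⥤ᵇ AlgSt.ofSp M) (η : (AlgSt.ofSp M).obj) where
  ξ₀ : 𝒳.obj
  ω : 𝒳.obj
  α₀ : π.obj ξ₀ ⟶ η
  p : ω ⟶ ξ₀
  q : ω ⟶ ξ₀
  comm : π.map p ≫ α₀ = π.map q ≫ α₀
  affine₀ : IsAffine (StMod.sch 𝒳 ξ₀)
  affineω : IsAffine (StMod.sch 𝒳 ω)
  cover : ∀ (ξ : 𝒳.obj) (α : π.obj ξ ⟶ η), ∃ (ζ : 𝒳.obj) (n : ζ ⟶ ξ) (φ : ζ ⟶ ξ₀),
    IsCov n ∧ π.map φ ≫ α₀ = π.map n ≫ α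
  sep : ∀ (ζ : 𝒳.obj) (φ φ' : ζ ⟶ ξ₀), π.map φ ≫ α₀ = π.map φ' ≫ α₀ →
    ∃ (ζ' : 𝒳.obj) (n : ζ' ⟶ ζ) (r : ζ' ⟶ ω), IsCov n ∧ r ≫ p = n ≫ φ ∧ r ≫ q = n ≫ φ'

variable (E : AlgSp.EtOver M)

/-- The map of the test object. -/
abbrev testMap : overCat E.obj.left ⥤ᵇ AlgSt.ofSp M :=
  BasedFunctor.comp (AlgSt.ofOverCat E.obj.left) (AlgSt.ofSpMap E.obj.hom)

/-- The morphism to the test object carried by an object of the fibre product. -/
def alphaOf (a : (fp (testMap E) π).obj) : π.obj a.obj.snd ⟶ StMod.etaOf E :=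
  a.obj.iso.inv ≫ ((testMap E).map (toId a.obj.fst) :
    (testMap E).obj a.obj.fst ⟶ (testMap E).obj (Over.mk (𝟙 E.obj.left)))

theorem alphaOf_hom {a b : (fp (testMap E) π).obj} (k : a ⟶ b) :
    π.map k.hom.snd ≫ alphaOf E b = alphaOf E a := by
  have w : (testMap E).map k.hom.fst ≫ b.obj.iso.hom = a.obj.iso.hom ≫ π.map k.hom.snd := k.hom.w
  unfold alphaOf
  rw [← Iso.inv_comp_eq] at w
  rw [← w]
  simp only [Category.assoc, Iso.hom_inv_id_assoc, ← Functor.map_comp, toId_natural]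

theorem baseOver_alphaOf (a : (fp (testMap E) π).obj) :
    StMod.baseOver π a.obj.snd (alphaOf E a) =
      eqToHom (fpSnd (testMap E) π |>.w_obj a) ≫ a.obj.fst.hom := by
  have hv : (AlgSt.ofSp M).p.IsHomLift (𝟙 _) a.obj.iso.hom := a.property
  have hv' := vert_inv (AlgSt.ofSp M).p a.obj.iso hv
  have h1 := @map_eq_of_vert _ _ _ _ (AlgSt.ofSp M).p _ _ _ a.obj.iso.inv hv'
  show eqToHom _ ≫ (AlgSt.ofSp M).p.map (a.obj.iso.inv ≫ _) = _
  rw [Functor.map_comp, h1, eqToHom_trans_assoc]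
  rfl

theorem exists_obj (ξ : 𝒳.obj) (α : π.obj ξ ⟶ StMod.etaOf E) :
    ∃ a : (fp (testMap E) π).obj, ∃ h : a.obj.snd = ξ, π.map (eqToHom h.symm) ≫ alphaOf E a = α := by
  let yb : (testMap E).obj (Over.mk (StMod.baseOver π ξ α)) ⟶ StMod.etaOf E :=
    (testMap E).map (Over.homMk (StMod.baseOver π ξ α) (Category.comp_id _) :
      Over.mk (StMod.baseOver π ξ α) ⟶ Over.mk (𝟙 E.obj.left))
  let i : (testMap E).obj (Over.mk (StMod.baseOver π ξ α)) ≅ π.obj ξ :=
    { hom := ⟨eqToHom (π.w_obj ξ).symm, by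
        refine Eq.trans ?_ yb.map_sec
        rw [← α.map_sec, ← Functor.map_comp_apply, ← op_comp]
        exact congrArg (fun g : 𝒳.p.obj ξ ⟶ E.obj.left => M.obj.map g.op (StMod.etaOf E).sec)
          (rfl : eqToHom (π.w_obj ξ).symm ≫ α.hom = yb.hom)⟩
      inv := ⟨eqToHom (π.w_obj ξ), by
        rw [← yb.map_sec, ← Functor.map_comp_apply, ← op_comp, ← α.map_sec]
        exact congrArg (fun g : (π.obj ξ).base ⟶ E.obj.left => M.obj.map g.op (StMod.etaOf E).sec)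
          (show eqToHom (π.w_obj ξ) ≫ eqToHom (π.w_obj ξ).symm ≫ α.hom = α.hom by simp)⟩
      hom_inv_id := Stk.EltObj.hom_ext (by simp)
      inv_hom_id := Stk.EltObj.hom_ext (by simp) }
  refine ⟨⟨⟨Over.mk (StMod.baseOver π ξ α), ξ, i⟩, by
    exact IsHomLift.of_fac' _ _ _ rfl (π.w_obj ξ) (by simp [i])⟩, rfl, ?_⟩
  refine (congrArg (· ≫ _) (π.toFunctor.map_id ξ)).trans ((Category.id_comp _).trans ?_)
  refine Stk.EltObj.hom_ext ?_
  show eqToHom (π.w_obj ξ) ≫ StMod.baseOver π ξ α = α.hom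
  simp [StMod.baseOver]

theorem exists_hom {a b : (fp (testMap E) π).obj} (φ : a.obj.snd ⟶ b.obj.snd)
    (h : π.map φ ≫ alphaOf E b = alphaOf E a) : ∃ k : a ⟶ b, k.hom.snd = φ := by
  have ha := fpSnd (testMap E) π |>.w_obj a
  have hb := fpSnd (testMap E) π |>.w_obj b
  have hbase : 𝒳.p.map φ ≫ StMod.baseOver π b.obj.snd (alphaOf E b) =
      StMod.baseOver π a.obj.snd (alphaOf E a) := by
    rw [StMod.map_comp_baseOver, h]
  rw [baseOver_alphaOf, baseOver_alphaOf] at hbase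
  let f : a.obj.fst ⟶ b.obj.fst := Over.homMk (eqToHom ha.symm ≫ 𝒳.p.map φ ≫ eqToHom hb) (by
    rw [Category.assoc, Category.assoc]
    refine (congrArg (eqToHom ha.symm ≫ ·) hbase).trans ?_
    simp)
  refine ⟨ObjectProperty.homMk { fst := f, snd := φ, w := Stk.EltObj.hom_ext ?_ }, rfl⟩
  have hva : (AlgSt.ofSp M).p.IsHomLift (𝟙 _) a.obj.iso.hom := a.property
  have hvb : (AlgSt.ofSp M).p.IsHomLift (𝟙 _) b.obj.iso.hom := b.property
  show (AlgSt.ofSp M).p.map ((testMap E).map f) ≫ (AlgSt.ofSp M).p.map b.obj.iso.hom =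
    (AlgSt.ofSp M).p.map a.obj.iso.hom ≫ (AlgSt.ofSp M).p.map (π.map φ)
  rw [map_eq_of_vert (AlgSt.ofSp M).p (R := (overCat E.obj.left).p.obj a.obj.fst) a.obj.iso.hom,
    map_eq_of_vert (AlgSt.ofSp M).p (R := (overCat E.obj.left).p.obj b.obj.fst) b.obj.iso.hom, based_map π]
  show (eqToHom ha.symm ≫ 𝒳.p.map φ ≫ eqToHom hb) ≫ _ = _
  simp

theorem isCov_snd {a b : (fp (testMap E) π).obj} (k : a ⟶ b) (h₁ : Smooth ((fp (testMap E) π).p.map k).left)
    (h₂ : Surjective ((fp (testMap E) π).p.map k).left) : IsCov k.hom.snd := by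
  have e : StMod.bmap 𝒳 k.hom.snd =
      eqToHom (congrArg Comma.left ((fpSnd (testMap E) π).w_obj a)) ≫ ((fp (testMap E) π).p.map k).left ≫
        eqToHom (congrArg Comma.left ((fpSnd (testMap E) π).w_obj b).symm) := by
    show (𝒳.p.map ((fpSnd (testMap E) π).map k)).left = _
    rw [based_map (fpSnd (testMap E) π) k]
    simp only [Over.comp_left, Over.eqToHom_left]
  have key : ∀ (P : MorphismProperty Scheme.{u}) [P.RespectsIso], P ((fp (testMap E) π).p.map k).left →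
      P (StMod.bmap 𝒳 k.hom.snd) := fun P _ hP => by
    rw [e]
    exact (P.cancel_left_of_respectsIso _ _).2 ((P.cancel_right_of_respectsIso _ _).2 hP)
  exact ⟨key @Smooth h₁, key @Surjective h₂⟩

variable [IsAffine E.obj.left.left]

theorem qc_fp_self (h𝒳 : AlgSt.IsAlgStack Scheme.fppfPrecoverage 𝒳) (hM : AlgSp.IsAlgSpace M)
    (hqs : AlgSt.IsQuasiSeparatedMor π) {U : Over S} [IsAffine U.left]
    (x : overCat U ⥤ᵇ fp (testMap E) π) : AlgSt.IsQuasiCompact (fp x x) := by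
  have hT := isAlgStack_overCat E.obj.left
  have hM' : AlgSt.IsAlgStack Scheme.fppfPrecoverage (AlgSt.ofSp M) :=
    Stk19b.LargestRep.isAlgStack_ofSp ⟨M, hM⟩
  have hZ := isAlgStack_fp hM'.isStack hM'.diag hT h𝒳 (testMap E) π
  let Q : fp (testMap E) π ⥤ᵇ overCat E.obj.left := fpFst (testMap E) π
  have hQ : AlgSt.RepByAlgSpWith AlgSp.IsQuasiCompactMor (FibCat.diag Q) :=
    diag_fpFst (testMap E) (repByAlgSpWith_mono (fun _ _ _ _ h => h.1) hqs)
  let u := BasedFunctor.comp x Q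
  obtain ⟨i⟩ := spMapOfOver_iso (BasedFunctor.comp (AlgSt.toOverCat U) u)
  obtain ⟨m, hm⟩ := (AlgSp.yon S).map_surjective (AlgSt.spMapOfOver (BasedFunctor.comp (AlgSt.toOverCat U) u))
  have hu : AlgSt.RepByAlgSpWith AlgSp.IsQuasiCompactMor u := by
    have h1 : AlgSt.RepByAlgSpWith AlgSp.IsAffineMor (AlgSt.ofSpMap ((AlgSp.yon S).map m)) :=
      repByAlgSpWith_ofSpMap (fun _ _ _ _ _ _ _ _ _ _ _ _ sq h => AlgSpLib.isAffineMor_of_isPullback sq h)
        (V := ⟨_, AlgSp.IsAlgSpace.yon_obj _⟩) (Z := ⟨_, AlgSp.IsAlgSpace.yon_obj _⟩) _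
        ((AlgSpLib.isAffineMor_iff_repWith _).2 ((AlgSp.repWith_yon_map_iff _ m).2
          (isAffineHom_of_isAffine m.left)))
    have h2 : AlgSt.RepByAlgSpWith AlgSp.IsAffineMor (AlgSt.overMap m) :=
      (repByAlgSpWith_iff_of_square (isEquivOver_ofOverCat U) (isEquivOver_ofOverCat _)
        (eqToIso (ofOver_overMap m))).2 h1
    have h3 : AlgSt.RepByAlgSpWith AlgSp.IsAffineMor u := repByAlgSpWith_of_iso
      ((Stk.restr (AlgSt.ofOverCat U) _).mapIso i ≪≫ eqToIso (by rw [← hm]; rfl)).symm h2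
    exact repByAlgSpWith_mono (fun X Y a hX h =>
      have hr := (AlgSpLib.isAffineMor_iff_repWith _).1 h
      (AlgSpLib.repWith_quasiCompact_iff hX (AlgSp.IsAlgSpace.yon_obj _) hr.1).1
        (AlgSpLib.RepWith.mono (fun _ _ g (_ : IsAffineHom g) => (inferInstance : QuasiCompact g)) hr)) h3
  have hU := isAlgStack_overCat U
  have h4 : AlgSt.IsQuasiCompact (fp u u) :=
    qcMor_of_with hT hU hu _ hU (isQuasiCompact_overCat U) u
  have huu := isAlgStack_fp hT.isStack hT.diag hU hU u u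
  have hxx := isAlgStack_fp hZ.isStack hZ.diag hU hU x x
  have h5 := qcMor_of_with huu hxx (fpPush_with (P := AlgSp.IsQuasiCompactMor) x (g := Q) hQ) _ huu h4
    (BasedFunctor.id _)
  exact isQuasiCompact_of_equiv (isEquivOver_comp (isEquivOver_fpSwap (BasedFunctor.id _) (fpPush x x Q))
    (isEquivOver_fpFst (F := fpPush x x Q) (isEquivOver_id _))) h5

theorem exists_atlas (h𝒳 : AlgSt.IsAlgStack Scheme.fppfPrecoverage 𝒳) (hM : AlgSp.IsAlgSpace M)
    (hqc : AlgSt.IsQuasiCompactMor Scheme.fppfPrecoverage π) (hqs : AlgSt.IsQuasiSeparatedMor π) :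
    Nonempty (Atlas π (StMod.etaOf E)) := by
  have hM' : AlgSt.IsAlgStack Scheme.fppfPrecoverage (AlgSt.ofSp M) :=
    Stk19b.LargestRep.isAlgStack_ofSp ⟨M, hM⟩
  have hT := isAlgStack_overCat E.obj.left
  have hZ := isAlgStack_fp hM'.isStack hM'.diag hT h𝒳 (testMap E) π
  let Z := fp (testMap E) π
  obtain ⟨U, x, hU, hx, hxs⟩ := hqc _ hT (isQuasiCompact_overCat _) (testMap E)
  haveI : IsAffine U.left := hU
  obtain ⟨F, e, he⟩ := repByAlgSp1_of_diag hZ.isStack.1 hZ.diag (repByAlgSp_overCat U) x U x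
  obtain ⟨G', hG', -, -⟩ := exists_inverse he
  haveI := AlgSpLib.compactSpace_points_of_isQuasiCompactSp
    (isQuasiCompactSp_of_ofSp F (isQuasiCompact_of_equiv hG' (qc_fp_self E h𝒳 hM hqs x)))
  obtain ⟨W, w, hW, hwe, hws⟩ := AlgSpLib.exists_affine_chart F.property
  haveI : IsAffine W.left := hW
  obtain ⟨-, -, hess⟩ := EqvData.of_isEquivOver he
  let b : Z.obj := x.obj (Over.mk (𝟙 U))
  have hb : Z.p.obj b = U := x.w_obj _
  let tW : (AlgSt.ofSp F.obj).obj := ⟨W, GrothendieckTopology.uliftYonedaEquiv.{u + 1} (AlgSp.J S) w⟩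
  let PW : (fp x x).obj := e.obj tW
  let ωZ : Z.obj := x.obj PW.obj.fst
  let pZ : ωZ ⟶ b := x.map (toId PW.obj.fst)
  let qZ : ωZ ⟶ b := PW.obj.iso.hom ≫ x.map (toId PW.obj.snd)
  refine ⟨Atlas.mk b.obj.snd ωZ.obj.snd (alphaOf E b) pZ.hom.snd qZ.hom.snd
    ((alphaOf_hom E pZ).trans (alphaOf_hom E qZ).symm) ?_ ?_ ?_ ?_⟩
  · show IsAffine (𝒳.p.obj b.obj.snd).left
    rw [show 𝒳.p.obj b.obj.snd = U from ((fpSnd (testMap E) π).w_obj b).trans hb]
    exact hU
  · show IsAffine (𝒳.p.obj ωZ.obj.snd).left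
    rw [show 𝒳.p.obj ωZ.obj.snd = W from
      ((fpSnd (testMap E) π).w_obj ωZ).trans ((x.w_obj PW.obj.fst).trans (e.w_obj tW))]
    exact hW
  · intro ξ α
    obtain ⟨a, rfl, hα⟩ := exists_obj E ξ α
    rw [eqToHom_refl, π.toFunctor.map_id, Category.id_comp] at hα
    subst hα
    obtain ⟨G, j, hj⟩ := exists_classifying hZ.isStack.1 a rfl
    obtain ⟨V, c, hc, hcs, l, -, ⟨i⟩, -⟩ := exists_cover_lift hx hxs G G
    let o : (overCat (Z.p.obj a)).obj := (AlgSt.overMap c).obj (Over.mk (𝟙 V))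
    let n : G.obj o ⟶ a := G.map (toId o) ≫ j.hom
    let φ : G.obj o ⟶ b :=
      (Stk19.appIso i (Over.mk (𝟙 V))).inv ≫ x.map (toId (l.obj (Over.mk (𝟙 V))))
    have hn : Z.p.map n = eqToHom (G.w_obj o) ≫ c := by
      have hj' := map_eq_of_vert Z.p (R := Z.p.obj a) j.hom
      rw [Z.p.map_comp, based_map G, hj']
      show (eqToHom _ ≫ (𝟙 V ≫ c) ≫ eqToHom _) ≫ eqToHom _ = _
      simp
    refine ⟨(G.obj o).obj.snd, n.hom.snd, φ.hom.snd, isCov_snd E n ?_ ?_,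
      (alphaOf_hom E φ).trans (alphaOf_hom E n).symm⟩
    all_goals rw [hn, Over.comp_left, Over.eqToHom_left]
    · exact (MorphismProperty.cancel_left_of_respectsIso @Smooth _ _).2 hc
    · exact (MorphismProperty.cancel_left_of_respectsIso @Surjective _ _).2 hcs
  · intro ζ φ φ' hφ
    obtain ⟨a, rfl, hα⟩ := exists_obj E ζ (π.map φ ≫ alphaOf E b)
    rw [eqToHom_refl, π.toFunctor.map_id, Category.id_comp] at hα
    obtain ⟨k, hk⟩ := exists_hom E φ hα.symm
    obtain ⟨k', hk'⟩ := exists_hom E φ' (hφ.symm.trans hα.symm)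
    subst hk hk'
    have mk : ∀ k : a ⟶ b, ∃ (A : (overCat U).obj) (σ : x.obj A ≅ a),
        A.left = Z.p.obj a ∧ Z.p.IsHomLift (𝟙 (Z.p.obj (x.obj A))) σ.hom ∧ σ.hom ≫ k = x.map (toId A) := by
      intro k
      let A : (overCat U).obj := Over.mk (Z.p.map k ≫ eqToHom hb)
      obtain ⟨χ, ⟨hχ, hχk⟩, -⟩ := fibGrpd_fac hZ.isStack.1 k (x.map (toId A)) (eqToHom (x.w_obj A)) (by
        rw [based_map x]
        show _ = eqToHom _ ≫ (Z.p.map k ≫ eqToHom hb) ≫ eqToHom _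
        simp
        rfl)
      have hv := vert_of_map_eq Z.p (h := x.w_obj A) hχ
      haveI := fibGrpd_isIso_vert hZ.isStack.1 (R := Z.p.obj (x.obj A)) χ
      exact ⟨A, asIso χ, rfl, hv, hχk⟩
    obtain ⟨A₁, σ₁, hA₁, hv₁, hσ₁⟩ := mk k
    obtain ⟨A₂, σ₂, hA₂, hv₂, hσ₂⟩ := mk k'
    have e₁ : (overCat U).p.obj A₁ = Z.p.obj (x.obj A₁) := (x.w_obj A₁).symm
    have hPv : Z.p.IsHomLift (𝟙 ((overCat U).p.obj A₁)) (σ₁ ≪≫ σ₂.symm).hom :=
      vert_comp Z.p _ _ (vert_change Z.p _ hv₁ e₁.symm)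
        (vert_inv Z.p σ₂ (vert_change Z.p _ hv₂ ((x.w_obj A₂).trans (hA₂.trans hA₁.symm))))
    let P : (fp x x).obj := ⟨⟨A₁, A₂, σ₁ ≪≫ σ₂.symm⟩, hPv⟩
    obtain ⟨t, i, hi⟩ := hess P
    have sq := hwe.1.isPullback ((GrothendieckTopology.uliftYonedaEquiv.{u + 1} (AlgSp.J S)).symm t.sec)
    set V := hwe.1.pullback ((GrothendieckTopology.uliftYonedaEquiv.{u + 1} (AlgSp.J S)).symm t.sec)
    obtain ⟨r, hr⟩ := (AlgSp.yon S).map_surjective
      (hwe.1.fst ((GrothendieckTopology.uliftYonedaEquiv.{u + 1} (AlgSp.J S)).symm t.sec))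
    let c : V ⟶ t.base := hwe.1.snd _
    have hce : Etale c.left := hwe.property_snd _
    have hcs : Surjective c.left := hws.property_snd _
    let t' : (AlgSt.ofSp F.obj).obj := ⟨V, F.obj.obj.map c.op t.sec⟩
    let hc : t' ⟶ t := ⟨c, rfl⟩
    let hrr : t' ⟶ tW := ⟨r, by
      rw [← hr] at sq
      have h := congrArg (GrothendieckTopology.uliftYonedaEquiv.{u + 1} (AlgSp.J S)) sq.w
      rw [← GrothendieckTopology.uliftYonedaEquiv_naturality, ← GrothendieckTopology.uliftYonedaEquiv_naturality,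
        Equiv.apply_symm_apply] at h
      exact h⟩
    let h1 : e.obj t' ⟶ P := e.map hc ≫ i.hom
    let h2 : e.obj t' ⟶ PW := e.map hrr
    let n : x.obj (e.obj t').obj.fst ⟶ a := x.map h1.hom.fst ≫ σ₁.hom
    let rZ : x.obj (e.obj t').obj.fst ⟶ ωZ := x.map h2.hom.fst
    have e₁' : rZ ≫ pZ = n ≫ k := by
      show x.map h2.hom.fst ≫ x.map (toId PW.obj.fst) = (x.map h1.hom.fst ≫ σ₁.hom) ≫ k
      rw [Category.assoc, hσ₁, ← x.toFunctor.map_comp, ← x.toFunctor.map_comp, toId_natural,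
        toId_natural h1.hom.fst]
    have e₂' : rZ ≫ qZ = n ≫ k' := by
      show x.map h2.hom.fst ≫ PW.obj.iso.hom ≫ x.map (toId PW.obj.snd) = (x.map h1.hom.fst ≫ σ₁.hom) ≫ k'
      have w₁ : x.map h1.hom.fst ≫ (σ₁.hom ≫ σ₂.inv) = (e.obj t').obj.iso.hom ≫ x.map h1.hom.snd := h1.hom.w
      have w₂ : x.map h2.hom.fst ≫ PW.obj.iso.hom = (e.obj t').obj.iso.hom ≫ x.map h2.hom.snd := h2.hom.w
      rw [reassoc_of% w₂, ← x.toFunctor.map_comp, toId_natural, ← toId_natural h1.hom.snd, x.toFunctor.map_comp,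
        ← reassoc_of% w₁]
      rw [show x.map (toId P.obj.snd) = σ₂.hom ≫ k' from hσ₂.symm]
      simp
    refine ⟨_, n.hom.snd, rZ.hom.snd, isCov_snd E n ?_ ?_, congrArg (fun m => m.hom.snd) e₁',
      congrArg (fun m => m.hom.snd) e₂'⟩
    all_goals
      have hi' := map_eq_of_vert (fp x x).p (R := (fp x x).p.obj P) i.hom
      have hh : (overCat U).p.map h1.hom.fst =
          eqToHom (e.w_obj t') ≫ c ≫ eqToHom ((e.w_obj t).symm.trans (eq_of_vert _ i.hom hi)) := by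
        show (fp x x).p.map h1 = _
        rw [Functor.map_comp, based_map e, hi']
        simp
        rfl
      have hσ := map_eq_of_vert Z.p (R := Z.p.obj (x.obj A₁)) σ₁.hom
      rw [Z.p.map_comp, based_map x, hσ, hh]
      simp only [Over.comp_left, Over.eqToHom_left]
    · exact (MorphismProperty.cancel_right_of_respectsIso @Smooth _ _).2
        ((MorphismProperty.cancel_left_of_respectsIso @Smooth _ _).2
        ((MorphismProperty.cancel_right_of_respectsIso @Smooth _ _).2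
        ((MorphismProperty.cancel_left_of_respectsIso @Smooth _ _).2
        ((MorphismProperty.cancel_right_of_respectsIso @Smooth _ _).2 inferInstance))))
    · exact (MorphismProperty.cancel_right_of_respectsIso @Surjective _ _).2
        ((MorphismProperty.cancel_left_of_respectsIso @Surjective _ _).2
        ((MorphismProperty.cancel_right_of_respectsIso @Surjective _ _).2
        ((MorphismProperty.cancel_left_of_respectsIso @Surjective _ _).2
        ((MorphismProperty.cancel_right_of_respectsIso @Surjective _ _).2 hcs))))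

end Groth.Agent.CohAff19
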