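import Groth.Agent.TameGood19.Sections
import Mathlib.RingTheory.IsTensorProduct
import Mathlib.Algebra.Category.Ring.Constructions
import Mathlib.RingTheory.Flat.Basic

/-! Sections of a quasi-coherent module over a base change of affine schemes. -/

set_option autoImplicit false
set_option backward.isDefEq.respectTransparency false
set_option backward.isDefEq.respectTransparency.types false
set_option linter.style.haveILetI false

universe w v u

open CategoryTheory CategoryTheory.Limits AlgebraicGeometry Opposite TensorProduct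
open Groth.Agent.Coherent Groth.Agent.PicLib Groth.Agent.Desc19b.QDesc Groth.Agent.TameGood19

noncomputable section

namespace Groth.Agent.CohAff19

theorem isPushout_appTop {P X Y Z : Scheme.{u}} [IsAffine P] [IsAffine X] [IsAffine Y] [IsAffine Z]
    {f : P ⟶ X} {g : P ⟶ Y} {h : X ⟶ Z} {k : Y ⟶ Z} (sq : IsPullback f g h k) :
    IsPushout h.appTop k.appTop f.appTop g.appTop := by
  have sq' : IsPullback (AffineScheme.ofHom f) (AffineScheme.ofHom g) (AffineScheme.ofHom h)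
      (AffineScheme.ofHom k) := IsPullback.of_map AffineScheme.forgetToScheme.{u}
        (f := AffineScheme.ofHom f) (g := AffineScheme.ofHom g) (h := AffineScheme.ofHom h)
        (i := AffineScheme.ofHom k)
        (AffineScheme.forgetToScheme.{u}.map_injective sq.w) sq
  exact ((sq'.map AffineScheme.Γ.rightOp).unop).flip

variable {S : Scheme.{u}} {𝒳 : BasedCategory.{v, w} (Over S)}

/-- Sections over an object, as a module over the functions on a base. -/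
def Sects (F : StMod.QCoh 𝒳) (ξ : 𝒳.obj) {E : Scheme.{u}} (_b : StMod.sch 𝒳 ξ ⟶ E) : Type u :=
  Γ(F.obj.obj ξ, ⊤)

instance (F : StMod.QCoh 𝒳) (ξ : 𝒳.obj) {E : Scheme.{u}} (b : StMod.sch 𝒳 ξ ⟶ E) : AddCommGroup (Sects F ξ b) :=
  inferInstanceAs (AddCommGroup Γ(F.obj.obj ξ, ⊤))

instance (F : StMod.QCoh 𝒳) (ξ : 𝒳.obj) {E : Scheme.{u}} (b : StMod.sch 𝒳 ξ ⟶ E) :
    Module Γ(E, ⊤) (Sects F ξ b) :=
  (Module.compHom Γ(F.obj.obj ξ, ⊤) b.appTop.hom : Module Γ(E, ⊤) Γ(F.obj.obj ξ, ⊤))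

theorem smul_sects (F : StMod.QCoh 𝒳) (ξ : 𝒳.obj) {E : Scheme.{u}} (b : StMod.sch 𝒳 ξ ⟶ E) (r : Γ(E, ⊤))
    (m : Sects F ξ b) : r • m = (show Γ(F.obj.obj ξ, ⊤) from b.appTop r • (show Γ(F.obj.obj ξ, ⊤) from m)) :=
  rfl

/-- Sections over a base change along affine schemes are the extension of scalars. -/
theorem exists_bc (F : StMod.QCoh 𝒳) {ξ' ξ : 𝒳.obj} (φ : ξ' ⟶ ξ) [IsAffine (StMod.sch 𝒳 ξ)]
    [IsAffine (StMod.sch 𝒳 ξ')] {E E' : Scheme.{u}} [IsAffine E] [IsAffine E'] (g : E' ⟶ E)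
    (b : StMod.sch 𝒳 ξ ⟶ E) (b' : StMod.sch 𝒳 ξ' ⟶ E') (sq : IsPullback (StMod.bmap 𝒳 φ) b' b g) :
    ∃ L : Fn g ⊗[Γ(E, ⊤)] Sects F ξ b →+ Γ(F.obj.obj ξ', ⊤), Function.Bijective L ∧
      ∀ (a : Fn g) (m : Sects F ξ b),
        L (a ⊗ₜ m) = b'.appTop (show Γ(E', ⊤) from a) • F.obj.mapTop φ m := by
  haveI : Coh.IsQCoh (F.obj.obj ξ) := F.property.2 ξ
  letI : Algebra Γ(E, ⊤) Γ(StMod.sch 𝒳 ξ, ⊤) := b.appTop.hom.toAlgebra
  letI : Algebra (Fn g) (Fn (StMod.bmap 𝒳 φ)) := (b'.appTop.hom : Γ(E', ⊤) →+* Γ(StMod.sch 𝒳 ξ', ⊤)).toAlgebra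
  letI : Algebra Γ(E, ⊤) (Fn (StMod.bmap 𝒳 φ)) := (b.appTop ≫ (StMod.bmap 𝒳 φ).appTop).hom.toAlgebra
  haveI : IsScalarTower Γ(E, ⊤) Γ(StMod.sch 𝒳 ξ, ⊤) (Fn (StMod.bmap 𝒳 φ)) :=
    IsScalarTower.of_algebraMap_eq' rfl
  haveI : IsScalarTower Γ(E, ⊤) (Fn g) (Fn (StMod.bmap 𝒳 φ)) := IsScalarTower.of_algebraMap_eq' (by
    have h := congrArg (fun k => k.appTop.hom) sq.w
    simp only [Scheme.Hom.comp_appTop, CommRingCat.hom_comp] at h
    exact h)
  haveI : Algebra.IsPushout Γ(E, ⊤) (Fn g) Γ(StMod.sch 𝒳 ξ, ⊤) (Fn (StMod.bmap 𝒳 φ)) :=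
    CommRingCat.isPushout_iff_isPushout.1 (isPushout_appTop sq).flip
  letI : Module Γ(E, ⊤) Γ(F.obj.obj ξ, ⊤) := inferInstanceAs (Module Γ(E, ⊤) (Sects F ξ b))
  haveI : IsScalarTower Γ(E, ⊤) Γ(StMod.sch 𝒳 ξ, ⊤) Γ(F.obj.obj ξ, ⊤) := ⟨fun r a m => by
    show (b.appTop r * a) • m = b.appTop r • (a • m)
    exact mul_smul _ _ _⟩
  let e := Algebra.IsPushout.cancelBaseChange Γ(E, ⊤) (Fn g) Γ(StMod.sch 𝒳 ξ, ⊤) (Fn (StMod.bmap 𝒳 φ))
    Γ(F.obj.obj ξ, ⊤)
  let c : Fn (StMod.bmap 𝒳 φ) ⊗[Γ(StMod.sch 𝒳 ξ, ⊤)] Γ(F.obj.obj ξ, ⊤) →+ Γ(F.obj.obj ξ', ⊤) :=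
    AddMonoidHom.mk' (fun w => (theta F.obj φ rfl).app ⊤ (bcMap (StMod.bmap 𝒳 φ) (F.obj.obj ξ) w).val)
      (fun a a' => by simp only [map_add, Sec.val_add])
  have hc : Function.Bijective c :=
    (theta_bijective F φ rfl).comp (Sec.val_bijective.comp (bijective_bcMap _ _))
  refine ⟨c.comp e.symm.toLinearMap.toAddMonoidHom, hc.comp e.symm.bijective, fun a m => ?_⟩
  show c (e.symm (a ⊗ₜ m)) = _
  rw [Algebra.IsPushout.cancelBaseChange_symm_tmul]
  show (theta F.obj φ rfl).app ⊤ (bcMap _ _ _).val = _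
  rw [bcMap_tmul, Sec.val_fn_smul, Scheme.Modules.Hom.app_smul, theta_app_pl]
  rfl

/-- Extension of scalars detects membership: faithfully flat descent at a prime. -/
theorem mem_of_forall_tensor {O : Type u} [CommRing O] {N : Type u} [AddCommGroup N] [Module O N]
    (P : Submodule O N) (s : N)
    (h : ∀ p : PrimeSpectrum O, ∃ (O' : Type u) (_ : CommRing O') (_ : Algebra O O') (_ : Module.Flat O O'),
      p ∈ Set.range (PrimeSpectrum.comap (algebraMap O O')) ∧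
      (1 : O') ⊗ₜ[O] s ∈ LinearMap.range (P.subtype.lTensor O')) : s ∈ P := by
  let f : O →ₗ[O] N ⧸ P := LinearMap.toSpanSingleton O _ (P.mkQ s)
  suffices hI : LinearMap.ker f = ⊤ by
    have h1 : (1 : O) ∈ LinearMap.ker f := hI ▸ Submodule.mem_top
    rw [LinearMap.mem_ker] at h1
    simpa [f] using h1
  by_contra hI
  obtain ⟨m, hm, hle⟩ := Ideal.exists_le_maximal _ hI
  obtain ⟨O', _, _, _, ⟨p', hp'⟩, z, hz⟩ := h ⟨m, hm.isPrime⟩
  have hzero : f.lTensor O' ((1 : O') ⊗ₜ 1) = 0 := by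
    rw [LinearMap.lTensor_tmul, LinearMap.toSpanSingleton_apply, one_smul,
      show (1 : O') ⊗ₜ[O] P.mkQ s = P.mkQ.lTensor O' ((1 : O') ⊗ₜ[O] s) from rfl, ← hz,
      ← LinearMap.comp_apply, ← LinearMap.lTensor_comp,
      show P.mkQ.comp P.subtype = 0 from LinearMap.ext fun x => (Submodule.Quotient.mk_eq_zero P).2 x.2,
      LinearMap.lTensor_zero]
    rfl
  obtain ⟨y, hy⟩ := (Module.Flat.lTensor_exact O' (LinearMap.exact_subtype_ker_map f) _).1 hzero
  have hmem : ∀ y : O' ⊗[O] LinearMap.ker f,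
      (TensorProduct.rid O O') ((LinearMap.ker f).subtype.lTensor O' y) ∈ p'.asIdeal := fun y => by
    induction y using TensorProduct.induction_on with
    | zero => simp
    | add a b ha hb => simpa only [map_add] using add_mem ha hb
    | tmul a i =>
      have hi : (i : O) ∈ (PrimeSpectrum.comap (algebraMap O O') p').asIdeal := by rw [hp']; exact hle i.2
      simp only [LinearMap.lTensor_tmul, Submodule.coe_subtype, TensorProduct.rid_tmul, Algebra.smul_def]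
      exact p'.asIdeal.mul_mem_right _ hi
  have := hmem y
  rw [hy, TensorProduct.rid_tmul, one_smul] at this
  exact p'.isPrime.ne_top ((Ideal.eq_top_iff_one _).2 this)

end Groth.Agent.CohAff19
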