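import Groth.Agent.CohAff19.Atlas
import Groth.Agent.TameGood19.Sections

/-! Sections of a pushforward are the equalised sections on an atlas. -/

set_option autoImplicit false
set_option backward.isDefEq.respectTransparency false
set_option backward.isDefEq.respectTransparency.types false
set_option linter.style.haveILetI false

universe u

open CategoryTheory CategoryTheory.Limits AlgebraicGeometry Opposite FibCat Groth.Agent.Desc19 Groth.Agent.Stk19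
open Groth.Agent.TameGood19

noncomputable section

namespace Groth.Agent.CohAff19

variable {S : Scheme.{u}} {𝒳 : AlgSt.Cat S}

theorem IsCov.flat {ζ ξ : 𝒳.obj} {n : ζ ⟶ ξ} (h : IsCov n) : Flat (StMod.bmap 𝒳 n) :=
  haveI := h.1; inferInstance

theorem IsCov.lfp {ζ ξ : 𝒳.obj} {n : ζ ⟶ ξ} (h : IsCov n) :
    LocallyOfFinitePresentation (StMod.bmap 𝒳 n) := haveI := h.1; inferInstance

/-- A fibre product of a morphism with a cover. -/
theorem exists_square (h𝒳 : IsFibGrpd 𝒳.p) {a a' a'' : 𝒳.obj} (n : a' ⟶ a) (m : a'' ⟶ a) :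
    ∃ (b : 𝒳.obj) (k : b ⟶ a'') (l : b ⟶ a'), k ≫ m = l ≫ n ∧
      IsPullback (StMod.bmap 𝒳 l) (StMod.bmap 𝒳 k) (StMod.bmap 𝒳 n) (StMod.bmap 𝒳 m) := by
  have sq := IsPullback.of_hasPullback (𝒳.p.map n) (𝒳.p.map m)
  obtain ⟨b, l, eb, hl⟩ := fibGrpd_lift h𝒳 a' (pullback.fst (𝒳.p.map n) (𝒳.p.map m))
  obtain ⟨k, ⟨hk, hkm⟩, -⟩ := fibGrpd_fac h𝒳 m (l ≫ n) (eqToHom eb ≫ pullback.snd _ _) (by
    rw [Category.assoc, ← pullback.condition, 𝒳.p.map_comp, hl, Category.assoc])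
  refine ⟨b, k, l, hkm, ?_⟩
  refine IsPullback.map (Over.forget S) ?_
  rw [hl, hk]
  exact sq.of_iso (eqToIso eb).symm (Iso.refl _) (Iso.refl _) (Iso.refl _) (by simp) (by simp) (by simp) (by simp)

variable (h𝒳 : IsFibGrpd 𝒳.p) (F : StMod.QCoh 𝒳)
include h𝒳

theorem mapTop_injective {a a' : 𝒳.obj} (n : a' ⟶ a) (h : IsCov n) :
    Function.Injective (F.obj.mapTop n) := by
  intro s s' e
  obtain ⟨b, k, l, hc, sq⟩ := exists_square h𝒳 n n
  haveI := h.flat; haveI := h.lfp; haveI := h.2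
  exact (existsUnique_mapTop F n l k hc.symm sq (F.obj.mapTop n s) (by
    rw [← StMod.Mod.mapTop_comp, ← StMod.Mod.mapTop_comp, hc])).unique rfl e.symm

variable {M : AlgSp.Sp S} {π : 𝒳 ⥤ᵇ AlgSt.ofSp M} {η : (AlgSt.ofSp M).obj} (A : Atlas π η)

theorem Atlas.agree {m : Γ(F.obj.obj A.ξ₀, ⊤)} (hm : F.obj.mapTop A.p m = F.obj.mapTop A.q m)
    {ζ : 𝒳.obj} (φ φ' : ζ ⟶ A.ξ₀) (h : π.map φ ≫ A.α₀ = π.map φ' ≫ A.α₀) :
    F.obj.mapTop φ m = F.obj.mapTop φ' m := by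
  obtain ⟨ζ', n, r, hn, h₁, h₂⟩ := A.sep ζ φ φ' h
  apply mapTop_injective h𝒳 F n hn
  rw [← StMod.Mod.mapTop_comp, ← StMod.Mod.mapTop_comp, ← h₁, ← h₂, StMod.Mod.mapTop_comp,
    StMod.Mod.mapTop_comp, hm]

theorem Atlas.relSect_ext (s t : StMod.Mod.RelSect π F.obj η) (h : s.1 A.ξ₀ A.α₀ = t.1 A.ξ₀ A.α₀) : s = t := by
  refine StMod.Mod.RelSect.ext π F.obj η fun ξ α => ?_
  obtain ⟨ζ, n, φ, hn, hα⟩ := A.cover ξ α
  apply mapTop_injective h𝒳 F n hn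
  rw [s.2 n α, t.2 n α, ← hα, ← s.2 φ A.α₀, ← t.2 φ A.α₀, h]

theorem Atlas.exists_relSect {m : Γ(F.obj.obj A.ξ₀, ⊤)} (hm : F.obj.mapTop A.p m = F.obj.mapTop A.q m) :
    ∃ t : StMod.Mod.RelSect π F.obj η, t.1 A.ξ₀ A.α₀ = m := by
  let P : ∀ (ξ : 𝒳.obj), (π.obj ξ ⟶ η) → Γ(F.obj.obj ξ, ⊤) → Prop := fun ξ α s =>
    ∀ (ζ : 𝒳.obj) (n : ζ ⟶ ξ) (φ : ζ ⟶ A.ξ₀), π.map φ ≫ A.α₀ = π.map n ≫ α →
      F.obj.mapTop n s = F.obj.mapTop φ m
  have hex : ∀ ξ α, ∃ s, P ξ α s := by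
    intro ξ α
    obtain ⟨a', n, φ, hn, hα⟩ := A.cover ξ α
    haveI := hn.flat; haveI := hn.lfp; haveI := hn.2
    obtain ⟨b, k, l, hc, sq⟩ := exists_square h𝒳 n n
    obtain ⟨s, hs, -⟩ := existsUnique_mapTop F n l k hc.symm sq (F.obj.mapTop φ m) (by
      rw [← StMod.Mod.mapTop_comp, ← StMod.Mod.mapTop_comp]
      refine A.agree h𝒳 F hm _ _ ?_
      rw [π.toFunctor.map_comp, π.toFunctor.map_comp, Category.assoc, Category.assoc, hα, ← Category.assoc,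
        ← Category.assoc, ← π.toFunctor.map_comp, ← π.toFunctor.map_comp, hc])
    refine ⟨s, fun a'' n' φ' hα' => ?_⟩
    obtain ⟨b, k, l, hc, sq⟩ := exists_square h𝒳 n n'
    have hk : IsCov k :=
      ⟨MorphismProperty.IsStableUnderBaseChange.of_isPullback sq hn.1,
        MorphismProperty.IsStableUnderBaseChange.of_isPullback sq hn.2⟩
    apply mapTop_injective h𝒳 F k hk
    rw [← StMod.Mod.mapTop_comp, hc, StMod.Mod.mapTop_comp, hs, ← StMod.Mod.mapTop_comp, ← StMod.Mod.mapTop_comp]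
    refine A.agree h𝒳 F hm _ _ ?_
    rw [π.toFunctor.map_comp, π.toFunctor.map_comp, Category.assoc, Category.assoc, hα, hα', ← Category.assoc,
      ← Category.assoc, ← π.toFunctor.map_comp, ← π.toFunctor.map_comp, hc]
  choose s hs using hex
  refine ⟨⟨s, fun ξ' ξ ψ α => ?_⟩, ?_⟩
  · obtain ⟨a', n, φ, hn, hα⟩ := A.cover ξ' (π.map ψ ≫ α)
    apply mapTop_injective h𝒳 F n hn
    rw [← StMod.Mod.mapTop_comp, hs ξ α a' (n ≫ ψ) φ (by rw [hα, π.toFunctor.map_comp, Category.assoc]),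
      hs ξ' _ a' n φ hα]
  · have := hs A.ξ₀ A.α₀ A.ξ₀ (𝟙 _) (𝟙 _) rfl
    simpa using this

end Groth.Agent.CohAff19
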