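import Groth.Prelude.Def_StMod6
import Groth.Agent.CohAff19.Glob
import Groth.Agent.CohAff19.BaseChange
import Groth.Agent.AlgSpLib.WeakAssEtSite
import Groth.Agent.AlgSpLib.EtLocalInst

/-! Transport of sections to a base change of a stack over an algebraic space. -/

set_option autoImplicit false
set_option backward.isDefEq.respectTransparency false
set_option backward.isDefEq.respectTransparency.types false
set_option linter.style.haveILetI false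

universe w v w' v' u

open CategoryTheory CategoryTheory.Limits AlgebraicGeometry Opposite FibCat Groth.Agent.Desc19 Groth.Agent.Stk19

noncomputable section

namespace Groth.Agent.CohAff19

section Cast

variable {X T X' T' : Scheme.{u}}

/-- Global sections read along an equality of schemes. -/
def castSec (h : X = T) {M : X.Modules} (x : Γ(M, ⊤)) : Γ(StMod.castMod h M, ⊤) := by subst h; exact x

theorem castSec_bijective (h : X = T) (M : X.Modules) : Function.Bijective (castSec h (M := M)) := by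
  subst h; exact Function.bijective_id

theorem castHom_app_castSec (h : X = T) {M N : X.Modules} (a : M ⟶ N) (x : Γ(M, ⊤)) :
    (StMod.castHom h a).app ⊤ (castSec h x) = castSec h (a.app ⊤ x) := by subst h; rfl

theorem castSec_smul (h : X = T) {M : X.Modules} (r : Γ(T, ⊤)) (x : Γ(M, ⊤)) :
    r • castSec h x = castSec h ((eqToHom h).appTop r • x) := by subst h; simp; rfl

theorem castMap_app_castSec (hX : X = T) (hX' : X' = T') {g₁ : X' ⟶ X} {g : T' ⟶ T}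
    (hg : g₁ ≫ eqToHom hX = eqToHom hX' ≫ g) {M : X.Modules} {N : X'.Modules}
    (m : M ⟶ (Scheme.Modules.pushforward g₁).obj N) (x : Γ(M, ⊤)) :
    (show Γ(StMod.castMod hX' N, ⊤) from (StMod.castMap hX hX' hg m).app ⊤ (castSec hX x)) =
      castSec hX' (show Γ(N, ⊤) from m.app ⊤ x) := by
  subst hX hX'
  obtain rfl : g₁ = g := by simpa using hg
  rw [StMod.castMap_rfl_self]
  rfl

variable {S : Scheme.{u}} {𝒳 : BasedCategory.{v, w} (Over S)} {𝒴 : BasedCategory.{v', w'} (Over S)}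
  (f : 𝒴 ⥤ᵇ 𝒳) (F : StMod.Mod 𝒳)

/-- Sections of the inverse image. -/
def pb (y : 𝒴.obj) (x : Γ(F.obj (f.obj y), ⊤)) : Γ((StMod.Mod.comap f F).obj y, ⊤) :=
  castSec (StMod.sch_obj_eq f y) x

theorem pb_bijective (y : 𝒴.obj) : Function.Bijective (pb f F y) := castSec_bijective _ _

theorem mapTop_pb {y' y : 𝒴.obj} (k : y' ⟶ y) (x : Γ(F.obj (f.obj y), ⊤)) :
    (StMod.Mod.comap f F).mapTop k (pb f F y x) = pb f F y' (F.mapTop (f.map k) x) :=
  castMap_app_castSec _ _ (StMod.bmap_map_comm f k rfl) _ _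

theorem app_pb {G : StMod.Mod 𝒳} (a : F ⟶ G) (y : 𝒴.obj) (x : Γ(F.obj (f.obj y), ⊤)) :
    ((StMod.Mod.comapMap f a).app y).app ⊤ (pb f F y x) = pb f G y ((a.app _).app ⊤ x) :=
  castHom_app_castSec _ _ _

theorem isSurj_comapMap {G : StMod.Mod 𝒳} {a : F ⟶ G} (h : StMod.Mod.IsSurj a) :
    StMod.Mod.IsSurj (StMod.Mod.comapMap f a) := by
  intro y hy z
  obtain ⟨x, rfl⟩ := (pb_bijective f G y).2 z
  obtain ⟨w, rfl⟩ := h (f.obj y) ((StMod.sch_obj_eq f y).symm ▸ hy) x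
  exact ⟨pb f F y w, app_pb f F a y w⟩

end Cast

variable {S : Scheme.{u}} {𝒳 : AlgSt.Cat S} {M M' : AlgSp.Sp S} {π : 𝒳 ⥤ᵇ AlgSt.ofSp M} (g : M' ⟶ M)

/-- An affine flat test object over a point. -/
theorem exists_test (hM : AlgSp.IsAlgSpace M) (hM' : AlgSp.IsAlgSpace M') (hgf : AlgSp.LocP @Flat g)
    (hgs : AlgSp.IsSurjectiveMor g) (E : AlgSp.EtOver M) (e : E.obj.left.left) :
    ∃ (E' : AlgSp.EtOver M') (g₀ : E'.obj.left ⟶ E.obj.left), IsAffine E'.obj.left.left ∧ Flat g₀.left ∧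
      e ∈ Set.range g₀.left ∧ E'.obj.hom ≫ g = (AlgSp.yon S).map g₀ ≫ E.obj.hom := by
  have sq := IsPullback.of_hasPullback g E.obj.hom
  have hP : AlgSp.IsAlgSpace (pullback g E.obj.hom) :=
    AlgSpLib.isAlgSpace_of_isPullback hM.diag hM' (AlgSp.IsAlgSpace.yon_obj _) sq
  have hflat := AlgSpLib.locP_of_isPullback AlgSpLib.etLocal_flat hM' hM hP sq hgf
  obtain ⟨x, hx⟩ := AlgSpLib.surjective_map_of_isPullback sq hgs
    (AlgSp.Points.ofPt (𝟙 ((AlgSp.yon S).obj E.obj.left)) e)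
  obtain ⟨E₁, hE₁, v, hv⟩ := AlgSpLib.QCohEt.exists_affine_chart hP x
  obtain ⟨g₀, hg₀⟩ := (AlgSp.yon S).map_surjective (E₁.obj.hom ≫ pullback.snd g E.obj.hom)
  refine ⟨AlgSp.EtOver.mk (E₁.obj.hom ≫ pullback.fst g E.obj.hom)
    (AlgSpLib.RepWith.comp E₁.property (AlgSpLib.RepWith.baseChange sq.flip E.property)), g₀, hE₁,
    hflat E₁.obj.hom (𝟙 _) g₀ E₁.property (AlgSp.repWith_id _ _) (by rw [hg₀]; simp), ⟨v, ?_⟩, ?_⟩
  · apply (AlgSp.Points.schemeHomeo E.obj.left).injective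
    show AlgSp.Points.ofPt (𝟙 _) _ = AlgSp.Points.ofPt (𝟙 _) e
    rw [← hx, ← hv, AlgSp.Points.map_ofPt, ← hg₀]
    exact ((congrArg (fun k => AlgSp.Points.ofPt k v) (Category.comp_id _).symm).trans
      (AlgSpLib.ofPt_map g₀ (𝟙 _) v)).symm
  · show (E₁.obj.hom ≫ pullback.fst g E.obj.hom) ≫ g = _
    rw [hg₀, Category.assoc, Category.assoc, pullback.condition]

variable {g} {E : AlgSp.EtOver M} {E' : AlgSp.EtOver M'} {g₀ : E'.obj.left ⟶ E.obj.left}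
  (hg₀ : E'.obj.hom ≫ g = (AlgSp.yon S).map g₀ ≫ E.obj.hom)

include hg₀ in
theorem sec_comm : g.hom.app (op E'.obj.left) (StMod.etaOf E').sec =
    M.obj.map g₀.op (StMod.etaOf E).sec := by
  have h := congrArg (AlgSp.J S).uliftYonedaEquiv hg₀
  rw [GrothendieckTopology.uliftYonedaEquiv_comp, ← GrothendieckTopology.uliftYonedaEquiv_naturality] at h
  exact h

/-- The map of test objects. -/
def testHom : (AlgSt.ofSpMap g).obj (StMod.etaOf E') ⟶ StMod.etaOf E :=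
  ⟨g₀, (sec_comm hg₀).symm⟩

/-- The structure of an object over `E` carried by an object of the base change over `E'`. -/
def downHom (a : (fp (AlgSt.ofSpMap g) π).obj) (γ : a.obj.fst ⟶ StMod.etaOf E') :
    π.obj a.obj.snd ⟶ StMod.etaOf E :=
  a.obj.iso.inv ≫ (AlgSt.ofSpMap g).map γ ≫ testHom hg₀

theorem downHom_map {a' a : (fp (AlgSt.ofSpMap g) π).obj} (k : a' ⟶ a) (γ : a.obj.fst ⟶ StMod.etaOf E') :
    π.map k.hom.snd ≫ downHom hg₀ a γ = downHom hg₀ a' (k.hom.fst ≫ γ) := by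
  have w : (AlgSt.ofSpMap g).map k.hom.fst ≫ a.obj.iso.hom = a'.obj.iso.hom ≫ π.map k.hom.snd := k.hom.w
  unfold downHom
  rw [← Iso.inv_comp_eq] at w
  rw [← w]
  simp only [Category.assoc, Iso.hom_inv_id_assoc, ← Functor.map_comp_assoc]

theorem baseOver_downHom (a : (fp (AlgSt.ofSpMap g) π).obj) (γ : a.obj.fst ⟶ StMod.etaOf E') :
    eqToHom (fpSnd (AlgSt.ofSpMap g) π |>.w_obj a).symm ≫ StMod.baseOver π a.obj.snd (downHom hg₀ a γ) =
      StMod.baseOver (fpFst (AlgSt.ofSpMap g) π) a γ ≫ g₀ := by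
  have hv : (AlgSt.ofSp M).p.IsHomLift (𝟙 _) a.obj.iso.hom := a.property
  have hv' := vert_inv (AlgSt.ofSp M).p a.obj.iso hv
  have h1 := @map_eq_of_vert _ _ _ _ (AlgSt.ofSp M).p _ _ _ a.obj.iso.inv hv'
  unfold StMod.baseOver downHom
  rw [Functor.map_comp, Functor.map_comp, h1]
  simp only [eqToHom_trans_assoc]
  rfl

/-- An object of the base change. -/
theorem exists_objOver (ξ : 𝒳.obj) (α : π.obj ξ ⟶ StMod.etaOf E) (c : 𝒳.p.obj ξ ⟶ E'.obj.left)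
    (hc : c ≫ g₀ = StMod.baseOver π ξ α) :
    ∃ (i : (AlgSt.ofSpMap g).obj (⟨𝒳.p.obj ξ, M'.obj.map c.op (StMod.etaOf E').sec⟩ : (AlgSt.ofSp M').obj) ≅
        π.obj ξ) (hi : (AlgSt.ofSp M).p.IsHomLift
          (𝟙 ((AlgSt.ofSp M').p.obj (⟨𝒳.p.obj ξ, M'.obj.map c.op (StMod.etaOf E').sec⟩ : (AlgSt.ofSp M').obj)))
          i.hom),
      i.inv ≫ (AlgSt.ofSpMap g).map (⟨c, rfl⟩ :
        (⟨𝒳.p.obj ξ, M'.obj.map c.op (StMod.etaOf E').sec⟩ : (AlgSt.ofSp M').obj) ⟶ StMod.etaOf E') ≫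
        testHom hg₀ = α := by
  have hsec : g.hom.app (op (𝒳.p.obj ξ)) (M'.obj.map c.op (StMod.etaOf E').sec) =
      M.obj.map (StMod.baseOver π ξ α).op (StMod.etaOf E).sec := by
    rw [NatTrans.naturality_apply, sec_comm hg₀, ← hc, op_comp, Functor.map_comp_apply]
    rfl
  refine ⟨{ hom := ⟨eqToHom (π.w_obj ξ).symm, ?_⟩
            inv := ⟨eqToHom (π.w_obj ξ), ?_⟩
            hom_inv_id := Stk.EltObj.hom_ext (by simp)
            inv_hom_id := Stk.EltObj.hom_ext (by simp) },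
    IsHomLift.of_fac' _ _ _ rfl (π.w_obj ξ) (by simp), Stk.EltObj.hom_ext ?_⟩
  · refine Eq.trans ?_ hsec.symm
    rw [← α.map_sec, ← Functor.map_comp_apply, ← op_comp]
    rfl
  · show M.obj.map (eqToHom (π.w_obj ξ)).op (g.hom.app _ _) = _
    rw [← α.map_sec]
    erw [hsec]
    rw [← Functor.map_comp_apply, ← op_comp]
    exact congrArg (fun k : (π.obj ξ).base ⟶ E.obj.left => M.obj.map k.op (StMod.etaOf E).sec)
      (show eqToHom (π.w_obj ξ) ≫ eqToHom (π.w_obj ξ).symm ≫ α.hom = α.hom by simp)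
  · show eqToHom (π.w_obj ξ) ≫ c ≫ g₀ = α.hom
    rw [hc]
    simp [StMod.baseOver]

/-- The object of the base change over `E'` given by an object over `E`. -/
def objOver (ξ : 𝒳.obj) (α : π.obj ξ ⟶ StMod.etaOf E) (c : 𝒳.p.obj ξ ⟶ E'.obj.left)
    (hc : c ≫ g₀ = StMod.baseOver π ξ α) : (fp (AlgSt.ofSpMap g) π).obj :=
  ⟨⟨_, ξ, (exists_objOver hg₀ ξ α c hc).choose⟩, (exists_objOver hg₀ ξ α c hc).choose_spec.choose⟩

/-- Its structure over `E'`. -/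
def gamOver (ξ : 𝒳.obj) (α : π.obj ξ ⟶ StMod.etaOf E) (c : 𝒳.p.obj ξ ⟶ E'.obj.left)
    (hc : c ≫ g₀ = StMod.baseOver π ξ α) : (objOver hg₀ ξ α c hc).obj.fst ⟶ StMod.etaOf E' := ⟨c, rfl⟩

theorem downHom_objOver (ξ : 𝒳.obj) (α : π.obj ξ ⟶ StMod.etaOf E) (c : 𝒳.p.obj ξ ⟶ E'.obj.left)
    (hc : c ≫ g₀ = StMod.baseOver π ξ α) :
    downHom hg₀ (objOver hg₀ ξ α c hc) (gamOver hg₀ ξ α c hc) = α :=
  (exists_objOver hg₀ ξ α c hc).choose_spec.choose_spec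

theorem baseOver_gamOver (ξ : 𝒳.obj) (α : π.obj ξ ⟶ StMod.etaOf E) (c : 𝒳.p.obj ξ ⟶ E'.obj.left)
    (hc : c ≫ g₀ = StMod.baseOver π ξ α) :
    StMod.baseOver (fpFst (AlgSt.ofSpMap g) π) (objOver hg₀ ξ α c hc) (gamOver hg₀ ξ α c hc) = c :=
  Category.id_comp _

theorem exists_homOver {ξ' ξ : 𝒳.obj} {α : π.obj ξ ⟶ StMod.etaOf E} {α' : π.obj ξ' ⟶ StMod.etaOf E}
    {c : 𝒳.p.obj ξ ⟶ E'.obj.left} {c' : 𝒳.p.obj ξ' ⟶ E'.obj.left}
    (hc : c ≫ g₀ = StMod.baseOver π ξ α) (hc' : c' ≫ g₀ = StMod.baseOver π ξ' α')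
    (φ : ξ' ⟶ ξ) (h : 𝒳.p.map φ ≫ c = c') :
    ∃ k : objOver hg₀ ξ' α' c' hc' ⟶ objOver hg₀ ξ α c hc,
      k.hom.snd = φ ∧ k.hom.fst ≫ gamOver hg₀ ξ α c hc = gamOver hg₀ ξ' α' c' hc' := by
  have hva : (AlgSt.ofSp M).p.IsHomLift (𝟙 _) (objOver hg₀ ξ α c hc).obj.iso.hom :=
    (objOver hg₀ ξ α c hc).property
  have hvb : (AlgSt.ofSp M).p.IsHomLift (𝟙 _) (objOver hg₀ ξ' α' c' hc').obj.iso.hom :=
    (objOver hg₀ ξ' α' c' hc').property
  let f : (objOver hg₀ ξ' α' c' hc').obj.fst ⟶ (objOver hg₀ ξ α c hc).obj.fst := ⟨𝒳.p.map φ, by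
    subst h
    show M'.obj.map (𝒳.p.map φ).op (M'.obj.map c.op _) = M'.obj.map (𝒳.p.map φ ≫ c).op _
    rw [← Functor.map_comp_apply, ← op_comp]⟩
  refine ⟨ObjectProperty.homMk { fst := f, snd := φ, w := Stk.EltObj.hom_ext ?_ }, rfl,
    Stk.EltObj.hom_ext h⟩
  show 𝒳.p.map φ ≫ (AlgSt.ofSp M).p.map (objOver hg₀ ξ α c hc).obj.iso.hom =
    (AlgSt.ofSp M).p.map (objOver hg₀ ξ' α' c' hc').obj.iso.hom ≫ (AlgSt.ofSp M).p.map (π.map φ)
  rw [map_eq_of_vert (AlgSt.ofSp M).p (R := (AlgSt.ofSp M').p.obj (objOver hg₀ ξ α c hc).obj.fst)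
      (objOver hg₀ ξ α c hc).obj.iso.hom,
    map_eq_of_vert (AlgSt.ofSp M).p (R := (AlgSt.ofSp M').p.obj (objOver hg₀ ξ' α' c' hc').obj.fst)
      (objOver hg₀ ξ' α' c' hc').obj.iso.hom, based_map π]
  show 𝒳.p.map φ ≫ _ = _
  simp

/-- A lift of an affine object over `E` to the test object. -/
theorem exists_lift (h𝒳 : IsFibGrpd 𝒳.p) [IsAffine E.obj.left.left] [IsAffine E'.obj.left.left]
    (g₀ : E'.obj.left ⟶ E.obj.left) (ξ : 𝒳.obj) [IsAffine (StMod.sch 𝒳 ξ)] (α : π.obj ξ ⟶ StMod.etaOf E) :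
    ∃ (ξ' : 𝒳.obj) (k : ξ' ⟶ ξ) (c : 𝒳.p.obj ξ' ⟶ E'.obj.left),
      c ≫ g₀ = StMod.baseOver π ξ' (π.map k ≫ α) ∧
      IsPullback (𝒳.p.map k) c (StMod.baseOver π ξ α) g₀ ∧
      IsPullback (StMod.bmap 𝒳 k) c.left (StMod.baseOver π ξ α).left g₀.left ∧
      IsAffine (StMod.sch 𝒳 ξ') := by
  have sq := IsPullback.of_hasPullback (StMod.baseOver π ξ α) g₀
  obtain ⟨ξ', k, e, hk⟩ := fibGrpd_lift h𝒳 ξ (pullback.fst (StMod.baseOver π ξ α) g₀)
  have sq' : IsPullback (𝒳.p.map k) (eqToHom e ≫ pullback.snd _ _) (StMod.baseOver π ξ α) g₀ := by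
    rw [hk]
    exact sq.of_iso (eqToIso e).symm (Iso.refl _) (Iso.refl _) (Iso.refl _) (by simp) (by simp) (by simp) (by simp)
  refine ⟨ξ', k, eqToHom e ≫ pullback.snd _ _, by rw [← sq'.w, StMod.map_comp_baseOver], sq',
    sq'.map (Over.forget S), ?_⟩
  haveI : IsAffine ((Over.forget S).obj ((AlgSt.ofSp M).p.obj (StMod.etaOf E))) :=
    inferInstanceAs (IsAffine E.obj.left.left)
  haveI : IsAffine ((Over.forget S).obj (𝒳.p.obj ξ)) := inferInstanceAs (IsAffine (StMod.sch 𝒳 ξ))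
  haveI : IsAffine ((Over.forget S).obj E'.obj.left) := inferInstanceAs (IsAffine E'.obj.left.left)
  exact IsAffine.of_isIso (sq'.map (Over.forget S)).isoPullback.hom

end Groth.Agent.CohAff19
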