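import Groth.Agent.CohAff19.Descend

/-! Descent of cohomological affineness and of the unit isomorphism along flat surjective maps. -/

set_option autoImplicit false
set_option backward.isDefEq.respectTransparency false
set_option backward.isDefEq.respectTransparency.types false
set_option linter.style.haveILetI false

universe w v u

open CategoryTheory CategoryTheory.Limits AlgebraicGeometry Opposite FibCat Groth.Agent.Desc19 Groth.Agent.Stk19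
open Groth.Agent.Coherent Groth.Agent.PicLib Groth.Agent.Desc19b.QDesc TensorProduct

noncomputable section

namespace Groth.Agent.CohAff19

section Lin

variable {S : Scheme.{u}} {𝒳 : BasedCategory.{v, w} (Over S)} (F : StMod.QCoh 𝒳)

/-- Restriction is linear over the functions on the base. -/
def resLin {ξ' ξ : 𝒳.obj} (φ : ξ' ⟶ ξ) {E : Scheme.{u}} (b : StMod.sch 𝒳 ξ ⟶ E) (b' : StMod.sch 𝒳 ξ' ⟶ E)
    (h : StMod.bmap 𝒳 φ ≫ b = b') : Sects F ξ b →ₗ[Γ(E, ⊤)] Sects F ξ' b' where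
  toFun m := F.obj.mapTop φ m
  map_add' x y := map_add ((F.obj.map φ rfl).app ⊤).hom x y
  map_smul' r m := by
    subst h
    show F.obj.mapTop φ (b.appTop r • (show Γ(F.obj.obj ξ, ⊤) from m)) = _
    rw [StMod.Mod.mapTop_smul]
    rfl

/-- A morphism of modules on sections is linear over the functions on the base. -/
def appLin {F G : StMod.QCoh 𝒳} (a : F ⟶ G) (ξ : 𝒳.obj) {E : Scheme.{u}} (b : StMod.sch 𝒳 ξ ⟶ E) :
    Sects F ξ b →ₗ[Γ(E, ⊤)] Sects G ξ b where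
  toFun m := (a.hom.app ξ).app ⊤ m
  map_add' x y := map_add ((a.hom.app ξ).app ⊤).hom x y
  map_smul' r m := Scheme.Modules.Hom.app_smul (a.hom.app ξ) (b.appTop r) m

theorem mapTop_zero' {ξ' ξ : 𝒳.obj} (φ : ξ' ⟶ ξ) : F.obj.mapTop φ 0 = 0 :=
  map_zero ((F.obj.map φ rfl).app ⊤).hom

theorem mapTop_add' {ξ' ξ : 𝒳.obj} (φ : ξ' ⟶ ξ) (x y : Γ(F.obj.obj ξ, ⊤)) :
    F.obj.mapTop φ (x + y) = F.obj.mapTop φ x + F.obj.mapTop φ y :=
  map_add ((F.obj.map φ rfl).app ⊤).hom x y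

end Lin

theorem exists_prime {E' E : Scheme.{u}} [IsAffine E] [IsAffine E'] (g₀ : E' ⟶ E) (p : PrimeSpectrum Γ(E, ⊤))
    (h : E.isoSpec.inv p ∈ Set.range g₀) :
    p ∈ Set.range (PrimeSpectrum.comap (algebraMap Γ(E, ⊤) (Fn g₀))) := by
  obtain ⟨e, he⟩ := h
  refine ⟨E'.isoSpec.hom e, ?_⟩
  have h := congrArg (fun f => f e) (Scheme.isoSpec_hom_naturality g₀)
  simp only [Scheme.Hom.comp_apply] at h
  rw [he] at h
  refine h.trans ?_
  exact congrArg (fun f => f p) E.isoSpec.inv_hom_id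

theorem flat_fn {E' E : Scheme.{u}} [IsAffine E] [IsAffine E'] (g₀ : E' ⟶ E) [Flat g₀] :
    Module.Flat Γ(E, ⊤) (Fn g₀) :=
  (HasRingHomProperty.iff_of_isAffine (P := @Flat)).1 inferInstance

variable {S : Scheme.{u}} {𝒳 : AlgSt.Cat S} {M M' : AlgSp.Sp S} {π : 𝒳 ⥤ᵇ AlgSt.ofSp M} {g : M' ⟶ M}

theorem isCohAffine_descend (h𝒳 : AlgSt.IsAlgStack Scheme.fppfPrecoverage 𝒳) (hM : AlgSp.IsAlgSpace M)
    (hM' : AlgSp.IsAlgSpace M') (hgf : AlgSp.LocP @Flat g) (hgs : AlgSp.IsSurjectiveMor g)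
    (hqc : AlgSt.IsQuasiCompactMor Scheme.fppfPrecoverage π) (hqs : AlgSt.IsQuasiSeparatedMor π)
    (h' : StMod.IsCohAffine (fpFst (AlgSt.ofSpMap g) π)) : StMod.IsCohAffine π := by
  intro F G u hu E hE t
  haveI : IsAffine E.obj.left.left := hE
  obtain ⟨A⟩ := exists_atlas E h𝒳 hM hqc hqs
  have hf := h𝒳.isStack.1
  haveI := A.affine₀
  haveI := A.affineω
  let b₀ := (StMod.baseOver π A.ξ₀ A.α₀).left
  let bω := (StMod.baseOver π A.ω (π.map A.p ≫ A.α₀)).left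
  have hp : StMod.bmap 𝒳 A.p ≫ b₀ = bω := StMod.bmap_comp_baseOver_left π A.p A.α₀
  have hq : StMod.bmap 𝒳 A.q ≫ b₀ = bω :=
    (StMod.bmap_comp_baseOver_left π A.q A.α₀).trans (by rw [← A.comm])
  let δ : Sects F A.ξ₀ b₀ →ₗ[Γ(E.obj.left.left, ⊤)] Sects F A.ω bω :=
    resLin F A.p b₀ bω hp - resLin F A.q b₀ bω hq
  let uL : Sects F A.ξ₀ b₀ →ₗ[Γ(E.obj.left.left, ⊤)] Sects G A.ξ₀ b₀ := appLin u A.ξ₀ b₀
  let t₀ : Sects G A.ξ₀ b₀ := t.1 A.ξ₀ A.α₀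
  obtain ⟨s₀, hs₀, hus⟩ : t₀ ∈ (LinearMap.ker δ).map uL := by
    refine mem_of_forall_tensor _ _ fun P => ?_
    obtain ⟨E', g₀, hE', hfl, hmem, hg₀⟩ :=
      exists_test g hM hM' hgf hgs E (E.obj.left.left.isoSpec.inv P)
    haveI := hE'; haveI := hfl
    haveI := flat_fn g₀.left
    refine ⟨Fn g₀.left, inferInstance, inferInstance, inferInstance, exists_prime g₀.left P hmem, ?_⟩
    obtain ⟨ξ₁, k₀, c₀, hc₀, sq₀', sq₀, hξ₁⟩ := exists_lift (E' := E') hf g₀ A.ξ₀ A.α₀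
    obtain ⟨ω₁, kω, cω, hcω, -, sqω, hω₁⟩ := exists_lift (E' := E') hf g₀ A.ω (π.map A.p ≫ A.α₀)
    haveI := hξ₁; haveI := hω₁
    have hl : ∀ r : A.ω ⟶ A.ξ₀, π.map r ≫ A.α₀ = π.map A.p ≫ A.α₀ →
        ∃ r' : ω₁ ⟶ ξ₁, r' ≫ k₀ = kω ≫ r ∧ 𝒳.p.map r' ≫ c₀ = cω := by
      intro r hr
      have hw : 𝒳.p.map (kω ≫ r) ≫ StMod.baseOver π A.ξ₀ A.α₀ = cω ≫ g₀ := by
        rw [hcω, StMod.map_comp_baseOver, π.toFunctor.map_comp, Category.assoc, hr]
      obtain ⟨r', ⟨hr', hrk⟩, -⟩ := fibGrpd_fac hf k₀ (kω ≫ r) (sq₀'.lift _ _ hw) (sq₀'.lift_fst _ _ _)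
      exact ⟨r', hrk, by rw [hr', sq₀'.lift_snd]⟩
    obtain ⟨p', hp'k, hp'c⟩ := hl A.p rfl
    obtain ⟨q', hq'k, hq'c⟩ := hl A.q A.comm.symm
    let f := fpSnd (AlgSt.ofSpMap g) π
    let t' : StMod.Mod.RelSect (fpFst (AlgSt.ofSpMap g) π) ((StMod.comapQ f).obj G).obj (StMod.etaOf E') :=
      ⟨fun a γ => pb f G.obj a (t.1 a.obj.snd (downHom hg₀ a γ)), fun a' a k γ => by
        refine (mapTop_pb f G.obj k _).trans (congrArg (pb f G.obj a') ?_)
        refine (t.2 k.hom.snd _).trans ?_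
        rw [downHom_map]
        rfl⟩
    obtain ⟨s', hs'⟩ := h' ((StMod.comapQ f).map u) (isSurj_comapMap f F.obj hu) E' hE' t'
    let a₁ := objOver hg₀ ξ₁ (π.map k₀ ≫ A.α₀) c₀ hc₀
    let γ₁ := gamOver hg₀ ξ₁ (π.map k₀ ≫ A.α₀) c₀ hc₀
    let aω := objOver hg₀ ω₁ (π.map kω ≫ π.map A.p ≫ A.α₀) cω hcω
    let γω := gamOver hg₀ ω₁ (π.map kω ≫ π.map A.p ≫ A.α₀) cω hcω
    obtain ⟨s₁, hs₁⟩ := (pb_bijective f F.obj a₁).2 (s'.1 a₁ γ₁)
    have hus₁ : (u.hom.app ξ₁).app ⊤ s₁ = G.obj.mapTop k₀ t₀ := by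
      refine (pb_bijective f G.obj a₁).1 ?_
      refine (app_pb f F.obj u.hom a₁ s₁).symm.trans ?_
      rw [hs₁]
      refine (congrArg (fun z : StMod.Mod.RelSect (fpFst (AlgSt.ofSpMap g) π) _ _ => z.1 a₁ γ₁) hs').trans
        (congrArg (pb f G.obj a₁) ?_)
      exact (congrArg (t.1 ξ₁) (downHom_objOver hg₀ ξ₁ _ c₀ hc₀)).trans (t.2 k₀ A.α₀).symm
    have hagree : F.obj.mapTop p' s₁ = F.obj.mapTop q' s₁ := by
      have H : ∀ r' : ω₁ ⟶ ξ₁, 𝒳.p.map r' ≫ c₀ = cω → pb f F.obj aω (F.obj.mapTop r' s₁) = s'.1 aω γω := by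
        intro r' hr'
        obtain ⟨k, hk, hkγ⟩ := exists_homOver hg₀ hc₀ hcω r' hr'
        subst hk
        refine (mapTop_pb f F.obj k s₁).symm.trans ?_
        rw [hs₁]
        refine (s'.2 k γ₁).trans ?_
        exact congrArg (s'.1 aω) hkγ
      exact (pb_bijective f F.obj aω).1 ((H p' hp'c).trans (H q' hq'c).symm)
    obtain ⟨L, hL, hLt⟩ := exists_bc F k₀ g₀.left b₀ c₀.left sq₀
    obtain ⟨LG, hLG, hLGt⟩ := exists_bc G k₀ g₀.left b₀ c₀.left sq₀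
    obtain ⟨Lω, hLω, hLωt⟩ := exists_bc F kω g₀.left bω cω.left sqω
    obtain ⟨z, hz⟩ := hL.2 s₁
    have hLd : ∀ y : Fn g₀.left ⊗[Γ(E.obj.left.left, ⊤)] Sects F A.ξ₀ b₀,
        Lω (δ.lTensor (Fn g₀.left) y) = F.obj.mapTop p' (L y) - F.obj.mapTop q' (L y) := by
      intro y
      induction y using TensorProduct.induction_on with
      | zero =>
        rw [map_zero, map_zero, map_zero]
        rw [mapTop_zero', mapTop_zero', sub_self]
      | add a b ha hb =>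
        rw [map_add, map_add, ha, hb, map_add]
        rw [mapTop_add', mapTop_add']
        exact (add_sub_add_comm _ _ _ _).symm
      | tmul a m =>
        have K : ∀ (r : A.ω ⟶ A.ξ₀) (r' : ω₁ ⟶ ξ₁) (hb : StMod.bmap 𝒳 r ≫ b₀ = bω),
            r' ≫ k₀ = kω ≫ r → 𝒳.p.map r' ≫ c₀ = cω →
            Lω (a ⊗ₜ resLin F r b₀ bω hb m) = F.obj.mapTop r' (L (a ⊗ₜ m)) := by
          intro r r' hb hr hc
          rw [hLωt, hLt, StMod.Mod.mapTop_smul]
          refine congrArg₂ (· • ·) ?_ ?_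
          · rw [← hc]; rfl
          · show F.obj.mapTop kω (F.obj.mapTop r m) = _
            rw [← StMod.Mod.mapTop_comp, ← StMod.Mod.mapTop_comp, hr]
        simp only [δ, LinearMap.lTensor_tmul, LinearMap.sub_apply, TensorProduct.tmul_sub, map_sub]
        rw [K A.p p' hp hp'k hp'c, K A.q q' hq hq'k hq'c]
    have hz0 : δ.lTensor (Fn g₀.left) z = 0 := hLω.1 (by rw [hLd, hz, hagree, sub_self, map_zero])
    obtain ⟨y, hy⟩ := (Module.Flat.lTensor_exact (Fn g₀.left) (LinearMap.exact_subtype_ker_map δ) z).1 hz0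
    have hLG' : ∀ y, LG (uL.lTensor (Fn g₀.left) y) = (u.hom.app ξ₁).app ⊤ (L y) := by
      intro y
      induction y using TensorProduct.induction_on with
      | zero => simp
      | add a b ha hb => simp only [map_add, ha, hb]
      | tmul a m =>
        rw [LinearMap.lTensor_tmul, hLGt, hLt, Scheme.Modules.Hom.app_smul]
        exact congrArg _ (StMod.Mod.mapTop_app u.hom k₀ m)
    have h1 : uL.lTensor (Fn g₀.left) z = (1 : Fn g₀.left) ⊗ₜ t₀ := hLG.1 (by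
      rw [hLG', hz, hus₁, hLGt]
      exact ((congrArg (· • _) (map_one c₀.left.appTop.hom)).trans (one_smul _ _)).symm)
    let uK : LinearMap.ker δ →ₗ[Γ(E.obj.left.left, ⊤)] ↥((LinearMap.ker δ).map uL) :=
      (uL.comp (LinearMap.ker δ).subtype).codRestrict _ fun x => ⟨x.1, x.2, rfl⟩
    refine ⟨uK.lTensor _ y, ?_⟩
    rw [← h1, ← hy, ← LinearMap.comp_apply, ← LinearMap.lTensor_comp, ← LinearMap.comp_apply,
      ← LinearMap.lTensor_comp]
    rfl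
  obtain ⟨s, hs⟩ := A.exists_relSect hf F (m := s₀) (sub_eq_zero.1 hs₀)
  refine ⟨s, A.relSect_ext hf G _ _ ?_⟩
  exact (congrArg ((u.hom.app A.ξ₀).app ⊤) hs).trans hus

end Groth.Agent.CohAff19
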