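import Groth.Agent.CohAff19.DescendThm
import Mathlib.AlgebraicGeometry.Restrict

/-! Descent of the unit isomorphism along flat surjective maps. -/

set_option autoImplicit false
set_option backward.isDefEq.respectTransparency false
set_option backward.isDefEq.respectTransparency.types false
set_option linter.style.haveILetI false

universe w v u

open CategoryTheory CategoryTheory.Limits AlgebraicGeometry Opposite FibCat Groth.Agent.Desc19 Groth.Agent.Stk19
open Groth.Agent.Coherent Groth.Agent.PicLib Groth.Agent.Desc19b.QDesc TensorProduct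

noncomputable section

namespace Groth.Agent.CohAff19

variable {S : Scheme.{u}} {𝒳 : AlgSt.Cat S} {M M' : AlgSp.Sp S} {π : 𝒳 ⥤ᵇ AlgSt.ofSp M} {g : M' ⟶ M}

section Local

variable {E : AlgSp.EtOver M}

/-- An open piece of a test object. -/
def resEt (E : AlgSp.EtOver M) {V : Over S} (j : V ⟶ E.obj.left) [IsOpenImmersion j.left] : AlgSp.EtOver M :=
  AlgSp.EtOver.mk ((AlgSp.yon S).map j ≫ E.obj.hom)
    (AlgSpLib.RepWith.comp ((AlgSp.repWith_yon_map_iff _ j).2 (inferInstanceAs (Etale j.left))) E.property)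

/-- Its map to the test object. -/
def resHom (E : AlgSp.EtOver M) {V : Over S} (j : V ⟶ E.obj.left) [IsOpenImmersion j.left] :
    StMod.etaOf (resEt E j) ⟶ StMod.etaOf E :=
  ⟨j, ((AlgSp.J S).uliftYonedaEquiv_naturality E.obj.hom j)⟩

theorem unit_res (r : Γ(E.obj.left.left, ⊤)) {V : Over S} (j : V ⟶ E.obj.left) [IsOpenImmersion j.left] (ξ : 𝒳.obj)
    (α : π.obj ξ ⟶ StMod.etaOf (resEt E j)) :
    (StMod.unitSect π (StMod.etaOf (resEt E j)) (j.left.appTop r)).1 ξ α =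
      (StMod.unitSect π (StMod.etaOf E) r).1 ξ (α ≫ resHom E j) := by
  rw [StMod.unitSect_val, StMod.unitSect_val, StMod.baseOver_comp]
  rfl

theorem exists_factor {V : Over S} (j : V ⟶ E.obj.left) [IsOpenImmersion j.left] (ξ : 𝒳.obj)
    (α : π.obj ξ ⟶ StMod.etaOf E) (c : 𝒳.p.obj ξ ⟶ V) (hc : c ≫ j = StMod.baseOver π ξ α) :
    ∃ α' : π.obj ξ ⟶ StMod.etaOf (resEt E j), α' ≫ resHom E j = α ∧ StMod.baseOver π ξ α' = c := by
  have hb : (eqToHom (π.w_obj ξ) ≫ c) ≫ j = α.hom := by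
    rw [Category.assoc, hc]
    simp [StMod.baseOver]
  refine ⟨⟨eqToHom (π.w_obj ξ) ≫ c, ?_⟩, Stk.EltObj.hom_ext hb, ?_⟩
  · refine (congrArg (M.obj.map (eqToHom (π.w_obj ξ) ≫ c).op)
      ((AlgSp.J S).uliftYonedaEquiv_naturality E.obj.hom j).symm).trans ?_
    rw [← α.map_sec, ← hb]
    exact (Functor.map_comp_apply M.obj j.op (eqToHom (π.w_obj ξ) ≫ c).op _).symm
  · show eqToHom _ ≫ eqToHom _ ≫ c = c
    simp

theorem unit_injective_of_affine
    (H : ∀ E : AlgSp.EtOver M, IsAffine E.obj.left.left → Function.Injective (StMod.unitSect π (StMod.etaOf E)))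
    (E : AlgSp.EtOver M) : Function.Injective (StMod.unitSect π (StMod.etaOf E)) := by
  rw [injective_iff_map_eq_zero]
  intro r hr
  refine Scheme.zero_of_zero_cover r E.obj.left.left.affineCover fun i => ?_
  let j : Over.mk (E.obj.left.left.affineCover.f i ≫ E.obj.left.hom) ⟶ E.obj.left :=
    Over.homMk (E.obj.left.left.affineCover.f i) rfl
  haveI : IsOpenImmersion j.left := inferInstanceAs (IsOpenImmersion (E.obj.left.left.affineCover.f i))
  haveI : IsAffine (resEt E j).obj.left.left := inferInstanceAs (IsAffine (E.obj.left.left.affineCover.X i))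
  refine (injective_iff_map_eq_zero _).1 (H (resEt E j) inferInstance) _ ?_
  refine StMod.Mod.RelSect.ext π _ _ fun ξ α => ?_
  refine (unit_res r j ξ α).trans ?_
  rw [hr]
  rfl

theorem unit_bijective_of_affine (h𝒳 : IsFibGrpd 𝒳.p)
    (H : ∀ E : AlgSp.EtOver M, IsAffine E.obj.left.left → Function.Bijective (StMod.unitSect π (StMod.etaOf E)))
    (E : AlgSp.EtOver M) : Function.Bijective (StMod.unitSect π (StMod.etaOf E)) := by
  have hinj := unit_injective_of_affine (fun E hE => (H E hE).1)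
  refine ⟨hinj E, fun s => ?_⟩
  let X := E.obj.left.left
  let jO : ∀ U : X.Opens, Over.mk (U.ι ≫ E.obj.left.hom) ⟶ E.obj.left := fun U => Over.homMk U.ι rfl
  haveI : ∀ U : X.Opens, IsOpenImmersion (jO U).left := fun U => inferInstanceAs (IsOpenImmersion U.ι)
  let sO : ∀ U : X.Opens, StMod.Mod.RelSect π (StMod.O 𝒳) (StMod.etaOf (resEt E (jO U))) := fun U =>
    ⟨fun ξ α => s.1 ξ (α ≫ resHom E (jO U)), fun ξ' ξ φ α => (s.2 φ _).trans
      (congrArg (s.1 ξ') (Category.assoc _ _ _).symm)⟩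
  have hr : ∀ U : X.affineOpens, ∃ r, StMod.unitSect π (StMod.etaOf (resEt E (jO U.1))) r = sO U.1 :=
    fun U => (H (resEt E (jO U.1)) (show IsAffine (U.1 : X.Opens).toScheme from U.2)).2 _
  choose r hr using hr
  have hres : ∀ (U : X.affineOpens) (W : X.Opens) (h : W ≤ U.1),
      StMod.unitSect π (StMod.etaOf (resEt E (jO W))) ((X.homOfLE h).appTop (r U)) = sO W := by
    intro U W h
    refine StMod.Mod.RelSect.ext π _ _ fun ξ α => ?_
    let j : Over.mk (W.ι ≫ E.obj.left.hom) ⟶ Over.mk (U.1.ι ≫ E.obj.left.hom) :=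
      Over.homMk (X.homOfLE h) (by simp)
    obtain ⟨α', hα', hb⟩ := exists_factor (jO U.1) ξ (α ≫ resHom E (jO W)) (StMod.baseOver π ξ α ≫ j) (by
      rw [StMod.baseOver_comp, Category.assoc]
      exact congrArg (StMod.baseOver π ξ α ≫ ·) (Over.OverMorphism.ext (X.homOfLE_ι h)))
    show _ = s.1 ξ (α ≫ resHom E (jO W))
    rw [← hα']
    refine Eq.trans ?_ (congrArg (fun z : StMod.Mod.RelSect π _ _ => z.1 ξ α') (hr U))
    rw [StMod.unitSect_val, StMod.unitSect_val, hb, Over.comp_left, Scheme.Hom.comp_appTop]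
    rfl
  have hcomp : TopCat.Presheaf.IsCompatible X.presheaf (fun U : X.affineOpens => U.1.ι ''ᵁ ⊤) r := by
    intro U U'
    let W : X.Opens := U.1 ⊓ U'.1
    have e : (X.homOfLE inf_le_left : W.toScheme ⟶ U.1.toScheme).appTop (r U) =
        (X.homOfLE inf_le_right : W.toScheme ⟶ U'.1.toScheme).appTop (r U') :=
      hinj (resEt E (jO W)) ((hres U W _).trans (hres U' W _).symm)
    rw [Scheme.homOfLE_appTop, Scheme.homOfLE_appTop] at e
    have hle : U.1.ι ''ᵁ ⊤ ⊓ U'.1.ι ''ᵁ ⊤ ≤ W.ι ''ᵁ ⊤ := by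
      simp [W]
    have e' := congrArg (X.presheaf.map (homOfLE hle).op) e
    erw [← Functor.map_comp_apply, ← Functor.map_comp_apply] at e'
    exact e'
  obtain ⟨r₀, hr₀, -⟩ := X.sheaf.existsUnique_gluing' (fun U : X.affineOpens => U.1.ι ''ᵁ ⊤) ⊤
    (fun U => homOfLE le_top) (fun x _ => by
      obtain ⟨U, hU, hxU, -⟩ := exists_isAffineOpen_mem_and_subset (X := X) (x := x) (U := ⊤) trivial
      exact TopologicalSpace.Opens.mem_iSup.2 ⟨⟨U, hU⟩, by simpa using hxU⟩) r hcomp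
  have hr₀' : ∀ U : X.affineOpens, U.1.ι.appTop r₀ = r U := fun U => hr₀ U
  refine ⟨r₀, StMod.Mod.RelSect.ext π _ _ fun ξ α => ?_⟩
  rw [← sub_eq_zero]
  let b : StMod.sch 𝒳 ξ ⟶ X := (StMod.baseOver π ξ α).left
  let 𝒰 : X.OpenCover := X.openCoverOfIsOpenCover (fun U : X.affineOpens => U.1) (iSup_affineOpens_eq_top X)
  refine Scheme.zero_of_zero_cover _ (𝒰.pullback₁ b) fun (U : X.affineOpens) => ?_
  let P := pullback b U.1.ι
  let f : Over.mk (pullback.fst b U.1.ι ≫ (𝒳.p.obj ξ).hom) ⟶ 𝒳.p.obj ξ := Over.homMk (pullback.fst b U.1.ι) rfl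
  obtain ⟨ξ', k, e, hk⟩ := fibGrpd_lift h𝒳 ξ f
  let c : 𝒳.p.obj ξ' ⟶ Over.mk (U.1.ι ≫ E.obj.left.hom) := eqToHom e ≫ Over.homMk (pullback.snd b U.1.ι) (by
    show pullback.snd b U.1.ι ≫ U.1.ι ≫ E.obj.left.hom = pullback.fst b U.1.ι ≫ (𝒳.p.obj ξ).hom
    rw [← pullback.condition_assoc]
    exact congrArg (pullback.fst b U.1.ι ≫ ·) (Over.w (StMod.baseOver π ξ α)))
  obtain ⟨α', hα', hb⟩ := exists_factor (jO U.1) ξ' (π.map k ≫ α) c (by
    rw [← StMod.map_comp_baseOver, hk, Category.assoc, Category.assoc]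
    exact congrArg (eqToHom e ≫ ·) (Over.OverMorphism.ext pullback.condition.symm))
  have H1 : (StMod.bmap 𝒳 k).appTop ((StMod.unitSect π (StMod.etaOf E) r₀).1 ξ α) =
      (StMod.bmap 𝒳 k).appTop (s.1 ξ α) := by
    refine (((StMod.unitSect π (StMod.etaOf E) r₀).2 k α).trans ?_).trans (s.2 k α).symm
    rw [← hα']
    refine (unit_res r₀ (jO U.1) ξ' α').symm.trans ?_
    show (StMod.unitSect π (StMod.etaOf (resEt E (jO U.1))) (U.1.ι.appTop r₀)).1 ξ' α' = _
    rw [hr₀']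
    exact congrArg (fun z : StMod.Mod.RelSect π _ _ => z.1 ξ' α') (hr U)
  have h2 : StMod.bmap 𝒳 k = eqToHom (congrArg Comma.left e) ≫ pullback.fst b U.1.ι :=
    (congrArg (fun m => m.left) hk).trans (by rw [Over.comp_left, Over.eqToHom_left]; rfl)
  rw [h2, ← sub_eq_zero, ← map_sub, Scheme.Hom.comp_appTop] at H1
  exact (ConcreteCategory.bijective_of_isIso (eqToHom (congrArg Comma.left e)).appTop).1
    (H1.trans (map_zero _).symm)

end Local

theorem unitIsIso_descend (h𝒳 : AlgSt.IsAlgStack Scheme.fppfPrecoverage 𝒳) (hM : AlgSp.IsAlgSpace M)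
    (hM' : AlgSp.IsAlgSpace M') (hgf : AlgSp.LocP @Flat g) (hgs : AlgSp.IsSurjectiveMor g)
    (hqc : AlgSt.IsQuasiCompactMor Scheme.fppfPrecoverage π) (hqs : AlgSt.IsQuasiSeparatedMor π)
    (h' : StMod.UnitIsIso (fpFst (AlgSt.ofSpMap g) π)) : StMod.UnitIsIso π := by
  refine unit_bijective_of_affine h𝒳.isStack.1 fun E hE => ⟨?_, ?_⟩
  · rw [injective_iff_map_eq_zero]
    suffices key : ∀ r : Γ(E.obj.left.left, ⊤), StMod.unitSect π (StMod.etaOf E) r = 0 → r = 0 from key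
    intro r hr
    refine (Submodule.mem_bot Γ(E.obj.left.left, ⊤)).1 (mem_of_forall_tensor ⊥ r fun P => ?_)
    obtain ⟨E', g₀, hE', hfl, hmem, hg₀⟩ :=
      exists_test g hM hM' hgf hgs E (E.obj.left.left.isoSpec.inv P)
    haveI := hE'; haveI := hfl
    haveI := flat_fn g₀.left
    refine ⟨Fn g₀.left, inferInstance, inferInstance, inferInstance, exists_prime g₀.left P hmem, 0, ?_⟩
    have h0 : g₀.left.appTop r = 0 := (injective_iff_map_eq_zero _).1 (h' E').1 _ (by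
      refine StMod.Mod.RelSect.ext _ _ _ fun a γ => ?_
      show (StMod.baseOver (fpFst (AlgSt.ofSpMap g) π) a γ).left.appTop (g₀.left.appTop r) = 0
      have hb := congrArg (fun m => m.left.appTop r) (baseOver_downHom (π := π) hg₀ a γ)
      simp only [Over.comp_left, Scheme.Hom.comp_appTop, CommRingCat.comp_apply] at hb
      refine hb.symm.trans ?_
      have h3 := congrArg (fun z : StMod.Mod.RelSect π _ _ => z.1 a.obj.snd (downHom hg₀ a γ)) hr
      exact (congrArg _ (show (StMod.baseOver π a.obj.snd (downHom hg₀ a γ)).left.appTop r = 0 from h3)).trans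
        (map_zero _))
    rw [map_zero]
    have h1 : r • (1 : Fn g₀.left) = 0 := by
      rw [Algebra.smul_def, show algebraMap Γ(E.obj.left.left, ⊤) (Fn g₀.left) r = 0 from h0, zero_mul]
    calc (0 : Fn g₀.left ⊗[Γ(E.obj.left.left, ⊤)] Γ(E.obj.left.left, ⊤))
        = (r • (1 : Fn g₀.left)) ⊗ₜ[Γ(E.obj.left.left, ⊤)] (1 : Γ(E.obj.left.left, ⊤)) := by
          rw [h1, TensorProduct.zero_tmul]
      _ = _ := by rw [TensorProduct.smul_tmul, smul_eq_mul, mul_one]
  · intro t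
    haveI : IsAffine E.obj.left.left := hE
    obtain ⟨A⟩ := exists_atlas E h𝒳 hM hqc hqs
    haveI := A.affine₀
    let b₀ : StMod.sch 𝒳 A.ξ₀ ⟶ E.obj.left.left := (StMod.baseOver π A.ξ₀ A.α₀).left
    let one : Sects (StMod.OQ 𝒳) A.ξ₀ b₀ := (1 : Γ(StMod.sch 𝒳 A.ξ₀, ⊤))
    let bl : Γ(E.obj.left.left, ⊤) →ₗ[Γ(E.obj.left.left, ⊤)] Sects (StMod.OQ 𝒳) A.ξ₀ b₀ :=
      LinearMap.toSpanSingleton _ _ one
    let t₀ : Sects (StMod.OQ 𝒳) A.ξ₀ b₀ := t.1 A.ξ₀ A.α₀
    obtain ⟨r, hr⟩ : t₀ ∈ LinearMap.range bl := by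
      refine mem_of_forall_tensor _ _ fun P => ?_
      obtain ⟨E', g₀, hE', hfl, hmem, hg₀⟩ :=
        exists_test g hM hM' hgf hgs E (E.obj.left.left.isoSpec.inv P)
      haveI := hE'; haveI := hfl
      haveI := flat_fn g₀.left
      refine ⟨Fn g₀.left, inferInstance, inferInstance, inferInstance, exists_prime g₀.left P hmem, ?_⟩
      obtain ⟨ξ₁, k₀, c₀, hc₀, -, sq₀, hξ₁⟩ := exists_lift (E' := E') h𝒳.isStack.1 g₀ A.ξ₀ A.α₀
      haveI := hξ₁
      let f := fpSnd (AlgSt.ofSpMap g) π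
      let t' : StMod.Mod.RelSect (fpFst (AlgSt.ofSpMap g) π) (StMod.O _) (StMod.etaOf E') :=
        ⟨fun a γ => (eqToHom (StMod.sch_obj_eq f a).symm).appTop (t.1 a.obj.snd (downHom hg₀ a γ)),
          fun a' a k γ => by
            rw [StMod.O_mapTop]
            have hc : StMod.bmap _ k ≫ eqToHom (StMod.sch_obj_eq f a).symm =
                eqToHom (StMod.sch_obj_eq f a').symm ≫ StMod.bmap 𝒳 k.hom.snd := by
              rw [← cancel_mono (eqToHom (StMod.sch_obj_eq f a)), Category.assoc, Category.assoc,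
                eqToHom_trans, eqToHom_refl, Category.comp_id]
              refine Eq.trans ?_ (congrArg (eqToHom (StMod.sch_obj_eq f a').symm ≫ ·)
                (StMod.bmap_map_comm f k rfl).symm)
              simp
            have hk := congrArg (fun m => m.appTop (t.1 a.obj.snd (downHom hg₀ a γ))) hc
            simp only [Scheme.Hom.comp_appTop, CommRingCat.comp_apply] at hk
            refine hk.trans (congrArg _ ?_)
            refine (t.2 k.hom.snd _).trans ?_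
            rw [downHom_map]
            rfl⟩
      obtain ⟨r', hr'⟩ := (h' E').2 t'
      have hval : c₀.left.appTop r' = (StMod.O 𝒳).mapTop k₀ t₀ := by
        have h1 := congrArg (fun z : StMod.Mod.RelSect (fpFst (AlgSt.ofSpMap g) π) _ _ =>
          z.1 (objOver hg₀ ξ₁ (π.map k₀ ≫ A.α₀) c₀ hc₀) (gamOver hg₀ ξ₁ (π.map k₀ ≫ A.α₀) c₀ hc₀)) hr'
        rw [StMod.unitSect_val, baseOver_gamOver] at h1
        refine h1.trans (Eq.trans ?_ (t.2 k₀ A.α₀).symm)
        exact congrArg (t.1 ξ₁) (downHom_objOver hg₀ ξ₁ _ c₀ hc₀)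
      obtain ⟨L, hL, hLt⟩ := exists_bc (StMod.OQ 𝒳) k₀ g₀.left b₀ c₀.left sq₀
      refine ⟨(show Fn g₀.left from r') ⊗ₜ ⟨bl 1, ⟨1, rfl⟩⟩, hL.1 ?_⟩
      rw [LinearMap.lTensor_tmul, hLt, hLt]
      let c₁ : StMod.sch 𝒳 ξ₁ ⟶ E'.obj.left.left := c₀.left
      show c₁.appTop r' * (StMod.bmap 𝒳 k₀).appTop (b₀.appTop 1 * (1 : Γ(StMod.sch 𝒳 A.ξ₀, ⊤))) =
        c₁.appTop 1 * (show Γ(StMod.sch 𝒳 ξ₁, ⊤) from (StMod.O 𝒳).mapTop k₀ t₀)
      rw [← hval]
      show c₁.appTop r' * _ = c₁.appTop 1 * c₁.appTop r'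
      simp
    refine ⟨r, A.relSect_ext h𝒳.isStack.1 (StMod.OQ 𝒳) _ _ ?_⟩
    exact (mul_one ((StMod.baseOver π A.ξ₀ A.α₀).left.appTop r : Γ(StMod.sch 𝒳 A.ξ₀, ⊤))).symm.trans hr

end Groth.Agent.CohAff19
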